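import Groth.Agent.AlgSp2.Absolute.AbsStep
import Groth.Agent.AlgSp2.Approx.Envelope

/-!
# Quasi-compact, quasi-separated spaces are affine over spaces of finite presentation
-/

set_option autoImplicit false
set_option linter.unusedSectionVars false
set_option backward.isDefEq.respectTransparency.types false
universe u

open CategoryTheory CategoryTheory.Limits AlgebraicGeometry TopologicalSpace Opposite AlgSp
open Groth.AlgSpBasic Groth.AlgSp2 Groth.AlgSp2.Approx Groth.AlgSp2.Induction
open Groth.AlgSp3 (resObj resι)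

namespace Groth.AlgSp2.Absolute

noncomputable section

variable {S : Scheme.{u}} [QuasiSeparatedSpace S] {X : Sp S}

theorem hasModel_of_isEmpty {E : Sp S} (hE : IsAlgSpace E) (hqs : IsQuasiSeparatedSp E)
    (he : IsEmpty (AlgSp.Points E)) : HasModel E := by
  obtain ⟨T, φ, hφe, hφs⟩ := hE.atlas
  have : IsEmpty ↥T.left := Function.isEmpty (AlgSp.Points.ofPt φ)
  have : IsOpenImmersion T.hom := inferInstance
  refine ⟨E, 𝟙 E, hE, ⟨T, φ, hφe, hφs, inferInstance⟩, hqs, fun s => ?_,
    isAffineMor_iff_repWith.2 (repWith_isIso _)⟩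
  exact locP_of_source_cover hE (IsAlgSpace.yon_obj _) hφe hφs
    (lfpS_yon (inferInstance : LocallyOfFinitePresentation T.hom) (φ ≫ s))

/-- Adding one chart which lands in an affine open of the base. -/
theorem hasModel_openSub_step (hX : IsAlgSpace X) (hXqs : IsQuasiSeparatedSp X)
    {D : Set (AlgSp.Points X)} (hD : IsOpen D) (hM : HasModel (openSub X D)) (V : Over S)
    [IsAffine V.left] {Sa : S.Opens} (hSa : IsAffineOpen Sa) (hV : Set.range V.hom ⊆ Sa)
    (g : (yon S).obj V ⟶ X) (hg : RepWith @Etale g) (hu : UniqueOver g Dᶜ) :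
    HasModel (openSub X (D ∪ Set.range (AlgSp.Points.ofPt g))) := by
  let D' := D ∪ Set.range (AlgSp.Points.ofPt g)
  have hD' : IsOpen D' := hD.union (isOpen_range_ofPt hg)
  let ι := openSubι X D
  let ι' := openSubι X D'
  have hι : RepWith @IsOpenImmersion ι := repWith_openSubι hD
  have hι' : RepWith @IsOpenImmersion ι' := repWith_openSubι hD'
  have hι'm : Mono ι' := mono_of_repWith (fun _ _ k (_ : IsOpenImmersion k) => inferInstance) hι'
  obtain ⟨j, hj⟩ : ∃ j : openSub X D ⟶ openSub X D', j ≫ ι' = ι :=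
    exists_lift_of_forall_yon ι' ι fun T z => (openSub_exists_lift_iff X D' _).2 fun t =>
      Or.inl ((openSub_exists_lift_iff X D (z ≫ ι)).1 ⟨z, rfl⟩ t)
  have hjo : RepWith @IsOpenImmersion j := repWith_of_isPullback (isPullback_of_mono_comp hj) hι
  obtain ⟨b, hb⟩ : ∃ b : (yon S).obj V ⟶ openSub X D', b ≫ ι' = g :=
    (openSub_exists_lift_iff X D' _).2 fun t => Or.inr ⟨t, rfl⟩
  have hbe : RepWith @Etale b := repWith_of_isPullback (isPullback_of_mono_comp hb) hg
  refine hasModel_step (isAlgSpace_openSub hX hD') (isQuasiSeparatedSp_of_mono hXqs ι')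
    (isAlgSpace_openSub hX hD) j hjo hM V hSa hV b hbe ?_ ?_
  · intro T x y e hout
    refine hu x y (by rw [← hb, reassoc_of% e]) fun t ht => hout t ?_
    obtain ⟨o, ho⟩ := (range_map_openSubι (X := X) (W := D)).ge ht
    refine ⟨o, injective_map_of_openImm hι' ?_⟩
    rw [← AlgSp.Points.map_comp, hj, ho, AlgSp.Points.map_ofPt, Category.assoc, hb]
  · intro y
    rcases (range_map_openSubι (X := X) (W := D')).le ⟨y, rfl⟩ with h | ⟨z, hz⟩
    · obtain ⟨o, ho⟩ := (range_map_openSubι (X := X) (W := D)).ge h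
      exact Or.inl ⟨o, injective_map_of_openImm hι' (by rw [← AlgSp.Points.map_comp, hj, ho])⟩
    · exact Or.inr ⟨z, injective_map_of_openImm hι' (by rw [AlgSp.Points.map_ofPt, hb, hz])⟩

/-- Absolute approximation: a qcqs space is affine over a qcqs space locally of finite presentation
over the base. -/
theorem hasModel (hX : IsAlgSpace X) (hXqc : IsQuasiCompactSp X) (hXqs : IsQuasiSeparatedSp X) :
    HasModel X := by
  classical
  have h := induction_compactOpen hX hXqc hXqs (fun D => HasModel (openSub X D)) ∅ isCompact_empty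
    isOpen_empty (hasModel_of_isEmpty (isAlgSpace_openSub hX isOpen_empty)
      (have : Mono (openSubι X (∅ : Set (AlgSp.Points X))) := mono_of_repWith
        (fun _ _ k (_ : IsOpenImmersion k) => inferInstance) (repWith_openSubι isOpen_empty)
      isQuasiSeparatedSp_of_mono hXqs (openSubι X (∅ : Set (AlgSp.Points X))))
      ⟨fun x => ((range_map_openSubι (X := X) (W := (∅ : Set (AlgSp.Points X)))).le ⟨x, rfl⟩).elim⟩)
    ?_
  · let ι := openSubι X (Set.univ : Set (AlgSp.Points X))
    have : IsIso ι := isIso_of_bijective_comp _ fun T =>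
      ⟨fun a b h => openSub_hom_ext X _ h, fun z =>
        (openSub_exists_lift_iff X _ z).2 fun _ => Set.mem_univ _⟩
    exact h.of_iso (asIso ι).symm
  intro D V g hV hg hDc hDo _ hu hQ
  have hloc : ∀ z : ↥V.left, ∃ (L : V.left.Opens) (Sa : S.Opens), IsAffineOpen L ∧ IsAffineOpen Sa ∧
      z ∈ L ∧ Set.range (L.ι ≫ V.hom) ⊆ Sa := by
    intro z
    obtain ⟨_, ⟨Sa, hSa : IsAffineOpen Sa, rfl⟩, hz, -⟩ :=
      S.isBasis_affineOpens.exists_subset_of_mem_open (Set.mem_univ (V.hom z)) isOpen_univ
    obtain ⟨L, hL, hzL, hle⟩ := exists_isAffineOpen_mem_and_subset (x := z) (U := V.hom ⁻¹ᵁ Sa) hz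
    exact ⟨L, Sa, hL, hSa, hzL, by rintro _ ⟨p, rfl⟩; exact hle p.2⟩
  choose L Sa hL hSa hzL hLS using hloc
  obtain ⟨t, ht⟩ := (isCompact_univ (X := ↥V.left)).elim_finite_subcover
    (fun z => (L z : Set ↥V.left)) (fun z => (L z).isOpen)
    (fun z _ => Set.mem_iUnion.2 ⟨z, hzL z⟩)
  have key : ∀ s : Finset ↥V.left, HasModel
      (openSub X (D ∪ AlgSp.Points.ofPt g '' ⋃ z ∈ s, (L z : Set ↥V.left))) ∧
      IsOpen (D ∪ AlgSp.Points.ofPt g '' ⋃ z ∈ s, (L z : Set ↥V.left)) := by
    intro s
    induction s using Finset.induction with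
    | empty => simpa using ⟨hQ, hDo⟩
    | insert z s _ ih =>
      let D₁ := D ∪ AlgSp.Points.ofPt g '' ⋃ y ∈ s, (L y : Set ↥V.left)
      let o : resObj (L z) ⟶ V := resι (L z)
      have ho : RepWith @Etale ((yon S).map o ≫ g) :=
        repWith_comp ((repWith_yon_map_iff _ o).2 (inferInstanceAs (Etale (L z).ι))) hg
      have : IsAffine (resObj (L z)).left := hL z
      have hr : D ∪ AlgSp.Points.ofPt g '' ⋃ y ∈ insert z s, (L y : Set ↥V.left) =
          D₁ ∪ Set.range (AlgSp.Points.ofPt ((yon S).map o ≫ g)) := by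
        have : Set.range (AlgSp.Points.ofPt ((yon S).map o ≫ g)) =
            AlgSp.Points.ofPt g '' (L z : Set ↥V.left) := by
          ext x
          constructor
          · rintro ⟨p, rfl⟩
            exact ⟨o.left p, p.2, (ofPt_comp_yon o g p).symm⟩
          · rintro ⟨p, hp, rfl⟩
            exact ⟨⟨p, hp⟩, ofPt_comp_yon o g _⟩
        rw [this, Finset.set_biUnion_insert, Set.image_union, Set.union_comm (AlgSp.Points.ofPt g '' _),
          ← Set.union_assoc]
      rw [hr]
      refine ⟨hasModel_openSub_step hX hXqs ih.2 ih.1 (resObj (L z)) (hSa z) (hLS z) _ ho ?_,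
        ih.2.union (isOpen_range_ofPt ho)⟩
      intro T x y e hout
      have h := hu (x ≫ o) (y ≫ o) (by simpa only [Functor.map_comp, Category.assoc] using e)
        fun p hp => hout p (Or.inl (by
          simpa only [Functor.map_comp, Category.assoc] using hp))
      have : Mono o := (Over.forget S).mono_of_mono_map (inferInstanceAs (Mono (L z).ι))
      exact (cancel_mono o).1 h
  have e : D ∪ Set.range (AlgSp.Points.ofPt g) =
      D ∪ AlgSp.Points.ofPt g '' ⋃ z ∈ t, (L z : Set ↥V.left) := by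
    rw [← Set.image_univ, Set.Subset.antisymm ht (Set.subset_univ _)]
  rw [e]
  exact (key t).1

end

end Groth.AlgSp2.Absolute
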