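import Groth.Agent.AlgSp2.Absolute.EtaleModel
import Groth.Agent.AlgSp2.Approx.SchemeStage
import Groth.Agent.AlgSp2.FiniteMor
import Groth.Agent.AlgSp2.Locality
import Groth.Agent.SpLimit.DiagRows
import Groth.Agent.AlgSpBasic.SepLQFScheme

/-!
# Schemes etale and separated over a limit of spaces come from such schemes over a stage
-/

set_option autoImplicit false
set_option linter.unusedSectionVars false
set_option backward.isDefEq.respectTransparency false
set_option backward.isDefEq.respectTransparency.types false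

universe u

open CategoryTheory CategoryTheory.Limits AlgebraicGeometry Opposite AlgSp
open Groth.AlgSpBasic Groth.SpLimit Groth.AlgSp3

noncomputable section

namespace Groth.AlgSp2.Absolute

variable {S : Scheme.{u}} [QuasiSeparatedSpace S] {I : Type u} [SmallCategory I] [IsCofiltered I]
  {D : I ⥤ Sp S} {c : Cone D} (hD : ∀ i, IsAlgSpace (D.obj i))
  (hDa : ∀ (i j : I) (φ : i ⟶ j), IsAffineMor (D.map φ)) (hc : IsLimit c)
  (hqc : ∀ i, IsQuasiCompactSp (D.obj i)) (hqs : ∀ i, IsQuasiSeparatedSp (D.obj i))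

include hD hDa hc hqc hqs in
/-- A qcqs scheme etale and separated over the limit is the base change of one over a stage. -/
theorem exists_etale_scheme_model {W : Over S} [CompactSpace W.left] [QuasiSeparatedSpace W.left]
    (w : (yon S).obj W ⟶ c.pt) (hw : RepWith @Etale w) (hws : RepWith @IsSeparated w) :
    ∃ (i : I) (W₀ : Over S) (w₀ : (yon S).obj W₀ ⟶ D.obj i) (q : W ⟶ W₀),
      CompactSpace W₀.left ∧ QuasiSeparatedSpace W₀.left ∧ RepWith @Etale w₀ ∧
      RepWith @IsSeparated w₀ ∧ IsPullback ((yon S).map q) w w₀ (c.π.app i) := by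
  obtain ⟨i, F, f, q, hF, hFc, hFs, hfe, sq⟩ := exists_etale_space_model hD hDa hc hqc hqs w hw
  let t : Over.forget i ⋙ D ⟶ (Functor.const (Over i)).obj (D.obj i) :=
    { app := fun k => D.map k.hom
      naturality := fun k l m => by
        show D.map m.left ≫ D.map l.hom = D.map k.hom ≫ 𝟙 _
        rw [Category.comp_id, ← D.map_comp, Over.w m] }
  have := IsCofiltered.isConnected (C := Over i)
  have hg : ∀ k : Over i, (c.whisker (Over.forget i)).π.app k ≫ t.app k = c.π.app i :=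
    fun k => c.w k.hom
  obtain ⟨hc'⟩ := nonempty_isLimit_bcCone t f hg
    ((Functor.Initial.isLimitWhiskerEquiv (Over.forget i) c).symm hc)
  have sP : ∀ k : Over i, IsPullback (pullback.fst (t.app k) f) (pullback.snd (t.app k) f) (t.app k) f :=
    fun k => IsPullback.of_hasPullback _ _
  have hG : ∀ k : Over i, IsAlgSpace ((bcSys t f).obj k) :=
    isAlgSpace_bcSys (fun k : Over i => hD k.left) (hD i) hF t f
  have haff : ∀ (k l : Over i) (m : k ⟶ l), IsAffineMor ((bcSys t f).map m) := fun k l m =>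
    isAffineMor_iff_repWith.2 (repWith_of_isPullback (isPullback_bcSys_map t f m)
      (isAffineMor_iff_repWith.1 (hDa _ _ m.left)))
  have hsnd : ∀ k : Over i, IsAffineMor (pullback.snd (t.app k) f) := fun k =>
    isAffineMor_iff_repWith.2 (repWith_of_isPullback (sP k)
      (isAffineMor_iff_repWith.1 (hDa _ _ k.hom)))
  have hGc : ∀ k : Over i, IsQuasiCompactSp ((bcSys t f).obj k) := fun k =>
    isQuasiCompactSp_of_affine hFc (sP k) (hDa _ _ k.hom)
  have hGs : ∀ k : Over i, IsQuasiSeparatedSp ((bcSys t f).obj k) := fun k =>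
    Groth.AlgSp2.Approx.isQuasiSeparatedSp_of_affineMor (hG k) (hsnd k) hFs
  obtain ⟨k₁, hk₁⟩ := exists_scheme_of_limit hG haff hc' hGc hGs sq.flip.isoPullback
  obtain ⟨i₂, φ₂, h₂⟩ := exists_separated_stage hD hDa hc hF (hD i) hFc (hqc i) hFs (hqs i)
    (X₀ := F) (f₀ := f) (b₀ := 𝟙 (D.obj i)) (pY := c.π.app i) (qY := 𝟙 c.pt)
    (IsPullback.id_horiz _).flip sq ((repWith_isSeparated_iff hw.rep).2 hws)
  obtain ⟨n, μ₁, μ₂, e⟩ := IsCofiltered.cospan k₁.hom φ₂
  let k : Over i := Over.mk (μ₁ ≫ k₁.hom)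
  let m : k ⟶ k₁ := Over.homMk μ₁
  -- the model at the common stage
  obtain ⟨W₁, ⟨e₁⟩⟩ := hk₁
  let ε := AlgSp.isoOfRepresentableBy e₁
  obtain ⟨W₀, p, v, sqv⟩ := (isAffineMor_iff_repWith.1 (haff k k₁ m)).rep ε.hom
  have : IsIso v := sqv.isIso_fst_of_isIso
  let w₀ : (yon S).obj W₀ ⟶ D.obj k.left := v ≫ pullback.fst (t.app k) f
  have hw₀s : IsSeparatedMor (pullback.fst (t.app k) f) := by
    obtain ⟨X', sX⟩ : ∃ X' : Sp S, IsPullback (pullback.snd (D.map (μ₂ ≫ φ₂)) f)
        (pullback.fst (D.map (μ₂ ≫ φ₂)) f) f (D.map (μ₂ ≫ φ₂)) :=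
      ⟨pullback (D.map (μ₂ ≫ φ₂)) f, (IsPullback.of_hasPullback _ _).flip⟩
    obtain ⟨P₂, a₂, b₂, sX₂⟩ : ∃ (P₂ : Sp S) (a₂ : P₂ ⟶ F) (b₂ : P₂ ⟶ D.obj i₂),
        IsPullback a₂ b₂ f (D.map φ₂) := ⟨_, _, _, IsPullback.of_hasPullback _ _⟩
    have h := h₂ P₂ (D.obj i₂) b₂ (D.map φ₂) (𝟙 _) (IsPullback.id_horiz _).flip a₂ sX₂
    obtain ⟨r, hr₁, hr₂⟩ := sX₂.exists_lift (pullback.snd (t.app k) f)
      (pullback.fst (t.app k) f ≫ D.map μ₂) (by
        rw [Category.assoc, ← D.map_comp, ← e]; exact (sP k).w.symm)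
    refine Groth.AlgSpBasic.repWith_diagonal_baseChange (f := b₂) (g := D.map μ₂) (fst := r) ?_ h
    refine IsPullback.of_right ?_ hr₂ sX₂
    rw [hr₁, ← D.map_comp, ← e]
    exact (sP k).flip
  have hw₀e : RepWith @Etale w₀ := by
    refine repWith_of_locP (hD k.left) (representable_of_diag (hD k.left).diag w₀)
      (locP_comp (IsAlgSpace.yon_obj _) (hG k) (hD k.left)
        (locP_of_repWith (repWith_mono (P := @IsOpenImmersion)
          (fun _ _ g (_ : IsOpenImmersion g) => (inferInstance : Etale g)) (repWith_isIso v))) ?_)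
    exact locP_of_isEtaleMor (isEtaleMor_of_isPullback hF (hD i) (hD k.left) (sP k).flip hfe)
  have hw₀s' : RepWith @IsSeparated w₀ := by
    refine (repWith_isSeparated_iff (representable_of_diag (hD k.left).diag w₀)).1 ?_
    exact repWith_diagonal_comp (repWith_diagonal_of_isAffineMor (IsAlgSpace.yon_obj _)
      (affWith_isAffineHom_iff.1 (affWith_of_repWith le_rfl (repWith_isIso v)))) hw₀s
  have hW₀c : CompactSpace W₀.left := (isQuasiCompactSp_yon_iff W₀).1
    (isQuasiCompactSp_of_surjective (hGc k) (hG k) (IsAlgSpace.yon_obj _) (inv v)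
      (Function.RightInverse.surjective (g := AlgSp.Points.map v) fun x => by
        rw [← AlgSp.Points.map_comp, IsIso.hom_inv_id, AlgSp.Points.map_id]))
  have hW₀s : QuasiSeparatedSpace W₀.left := by
    have h := isQuasiSeparatedSp_of_mono (hGs k) v
    have : QuasiCompact (pullback.diagonal W₀.hom) := (AlgSp.repWith_diag_yon_iff _ _).1 h
    have : QuasiSeparated W₀.hom := ⟨inferInstance⟩
    exact quasiSeparatedSpace_of_quasiSeparated W₀.hom
  let l := (sP k).lift (w ≫ c.π.app k.left) q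
    (by rw [Category.assoc]; erw [c.w k.hom]; exact sq.w.symm)
  have sl : IsPullback l w (pullback.fst (t.app k) f) (c.π.app k.left) := by
    refine IsPullback.of_right ?_ ((sP k).lift_fst _ _ _) (sP k).flip
    rw [(sP k).lift_snd]
    erw [c.w k.hom]
    exact sq
  obtain ⟨q', hq'⟩ := (yon S).map_surjective (l ≫ inv v)
  refine ⟨k.left, W₀, w₀, q', hW₀c, hW₀s, hw₀e, hw₀s', ?_⟩
  refine IsPullback.of_iso sl (Iso.refl _) (asIso v).symm (Iso.refl _) (Iso.refl _) ?_ (by simp) ?_
    (by simp)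
  · simp only [Iso.refl_hom, Category.id_comp, Iso.symm_hom, asIso_inv, hq']
  · simp only [w₀, Iso.refl_hom, Category.comp_id, Iso.symm_hom, asIso_inv, IsIso.inv_hom_id_assoc]

end Groth.AlgSp2.Absolute
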