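import Groth.Agent.AlgSp2.Absolute.OpenExtensionAffine
import Mathlib.CategoryTheory.Filtered.Final

/-!
# Extension of opens over a base
-/

set_option autoImplicit false
set_option backward.isDefEq.respectTransparency false
set_option backward.isDefEq.respectTransparency.types false
universe u

open CategoryTheory CategoryTheory.Limits AlgebraicGeometry TopologicalSpace Opposite

namespace Groth.AlgSp2.Absolute

noncomputable section

variable {S : Scheme.{u}}

/-- An affine scheme over an affine open of the base, with a limit as an open, extends that limit at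
a stage to an open of an affine scheme of finite presentation. -/
theorem exists_openExtension {J : Type u} [SmallCategory J] [IsCofiltered J] (E : J ⥤ Over S)
    (L : Cone E) (hL : IsLimit ((Over.forget S).mapCone L))
    (haff : ∀ {i j} (φ : i ⟶ j), IsAffineHom ((E ⋙ Over.forget S).map φ))
    (hc : ∀ i, CompactSpace (E.obj i).left) (hqs : ∀ i, QuasiSeparatedSpace (E.obj i).left)
    (hlfp : ∀ i, LocallyOfFinitePresentation (E.obj i).hom) {V : Over S} [IsAffine V.left]
    {Sa : S.Opens} (hSa : IsAffineOpen Sa) (hV : Set.range V.hom ⊆ Sa) (ι : L.pt ⟶ V)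
    (hι : IsOpenImmersion ι.left) :
    ∃ (j : J) (V₀ : Over S) (ι₀ : E.obj j ⟶ V₀) (v : V ⟶ V₀), IsAffine V₀.left ∧
      LocallyOfFinitePresentation V₀.hom ∧ IsOpenImmersion ι₀.left ∧
      IsPullback (L.π.app j) ι ι₀ v := by
  obtain ⟨j₀⟩ := IsCofiltered.nonempty (C := J)
  have : ∀ i, CompactSpace ((E ⋙ Over.forget S).obj i) := hc
  have : ∀ i, QuasiSeparatedSpace ((E ⋙ Over.forget S).obj i) := hqs
  obtain ⟨j₁, φ₁, hj₁⟩ := exists_map_eq_top (E ⋙ Over.forget S) _ hL
    (i := j₀) ((E.obj j₀).hom ⁻¹ᵁ Sa) (by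
      rw [eq_top_iff]
      intro x _
      show (E.obj j₀).hom ((L.π.app j₀).left x) ∈ Sa
      rw [← Scheme.Hom.comp_apply, Over.w (L.π.app j₀)]
      show L.pt.hom x ∈ Sa
      rw [← Over.w ι]
      exact hV ⟨ι.left x, rfl⟩)
  have hr : ∀ k : Over j₁, Set.range (E.obj k.left).hom ⊆ Set.range hSa.fromSpec := by
    intro k
    rw [hSa.range_fromSpec]
    rintro _ ⟨x, rfl⟩
    have hx : (E.map k.hom).left x ∈ (E ⋙ Over.forget S).map φ₁ ⁻¹ᵁ (E.obj j₀).hom ⁻¹ᵁ Sa := by
      rw [hj₁]; trivial
    change (E.obj j₀).hom ((E.map φ₁).left ((E.map k.hom).left x)) ∈ Sa at hx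
    rwa [← Scheme.Hom.comp_apply (E.map φ₁).left, Over.w (E.map φ₁), ← Scheme.Hom.comp_apply,
      Over.w (E.map k.hom)] at hx
  have hrV : Set.range V.hom ⊆ Set.range hSa.fromSpec := by rw [hSa.range_fromSpec]; exact hV
  let D := Over.forget j₁ ⋙ E ⋙ Over.forget S
  let cD : Cone D := ((Over.forget S).mapCone L).whisker (Over.forget j₁)
  have hcD : IsLimit cD := (Functor.Initial.isLimitWhiskerEquiv (Over.forget j₁) _).symm hL
  have : ∀ {a b : Over j₁} (φ : a ⟶ b), IsAffineHom (D.map φ) := fun φ => haff φ.left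
  have : ∀ a, CompactSpace (D.obj a) := fun a => hc a.left
  have : ∀ a, QuasiSeparatedSpace (D.obj a) := fun a => hqs a.left
  let t : ∀ k : Over j₁, D.obj k ⟶ Spec Γ(S, Sa) := fun k =>
    IsOpenImmersion.lift hSa.fromSpec (E.obj k.left).hom (hr k)
  have ht : ∀ k, t k ≫ hSa.fromSpec = (E.obj k.left).hom := fun k =>
    IsOpenImmersion.lift_fac _ _ (hr k)
  have htlfp : ∀ k, LocallyOfFinitePresentation (t k) := fun k => by
    have : LocallyOfFinitePresentation (t k ≫ hSa.fromSpec) := by rw [ht]; exact hlfp k.left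
    exact MorphismProperty.of_postcomp (W := @LocallyOfFinitePresentation) (W' := @IsOpenImmersion)
      (t k) hSa.fromSpec inferInstance this
  have : IsOpenImmersion ι.left := hι
  obtain ⟨k, P, p, ι₀, q, hp, hι₀, hpι, hpq, sq⟩ :=
    exists_openExtension_affine D cD hcD t htlfp (IsOpenImmersion.lift hSa.fromSpec V.hom hrV)
      (show cD.pt ⟶ V.left from ι.left) (fun k => by
        rw [← cancel_mono hSa.fromSpec, Category.assoc, Category.assoc, IsOpenImmersion.lift_fac,
          ht]
        exact (Over.w ι).trans (Over.w (L.π.app k.left)).symm)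
  refine ⟨k.left, Over.mk (Spec.map p ≫ hSa.fromSpec), Over.homMk ι₀ (by
      show ι₀ ≫ Spec.map p ≫ hSa.fromSpec = _
      rw [reassoc_of% hpι, ht]), Over.homMk q (by
      show q ≫ Spec.map p ≫ hSa.fromSpec = _
      rw [reassoc_of% hpq, IsOpenImmersion.lift_fac]), inferInstanceAs (IsAffine (Spec P)), ?_,
    hι₀, IsPullback.of_map (Over.forget S) (Over.OverMorphism.ext sq.w) sq⟩
  show LocallyOfFinitePresentation (Spec.map p ≫ hSa.fromSpec)
  have : LocallyOfFinitePresentation (Spec.map p) :=
    (HasRingHomProperty.Spec_iff (P := @LocallyOfFinitePresentation)).2 hp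
  infer_instance

end

end Groth.AlgSp2.Absolute
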