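import Groth.Agent.AlgSp2.Absolute.EtaleGlue
import Groth.Agent.AlgSp2.Absolute.EtaleScheme
import Groth.Agent.AlgSp2.Absolute.OpenExtension
import Groth.Agent.AlgSp2.Approx.AffineApprox
import Groth.Agent.AlgSp2.Approx.SigmaPieces
import Groth.Agent.AlgSp2.AffineCriteria
import Groth.Agent.AlgSp2.Induction.Chain
import Groth.Agent.AlgSpBasic.IntegralTop
import Groth.Agent.SpLimit.LfpLimit
import Groth.Agent.HenselPoint.SigmaRep

/-!
# Extending an affine map to a space of finite presentation over one affine chart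
-/

set_option autoImplicit false
set_option linter.unusedSectionVars false
set_option backward.isDefEq.respectTransparency false
set_option backward.isDefEq.respectTransparency.types false
universe u

open CategoryTheory CategoryTheory.Limits AlgebraicGeometry TopologicalSpace Opposite AlgSp
open Groth.AlgSpBasic Groth.AlgSp2 Groth.AlgSp2.Approx Groth.AlgSp2.Induction Groth.SpLimit
open Groth.AlgSp3 (resObj resι)

namespace Groth.AlgSp2.Absolute

noncomputable section

variable {S : Scheme.{u}}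

/-- Locally of finite presentation over the base. -/
def LfpS (X : Sp S) : Prop :=
  ∀ q : X ⟶ (yon S).obj (Over.mk (𝟙 S)), LocP @LocallyOfFinitePresentation q

/-- An affine map to a qcqs space locally of finite presentation over the base. -/
def HasModel (X : Sp S) : Prop :=
  ∃ (X₁ : Sp S) (a : X ⟶ X₁), IsAlgSpace X₁ ∧ IsQuasiCompactSp X₁ ∧ IsQuasiSeparatedSp X₁ ∧
    LfpS X₁ ∧ IsAffineMor a

theorem HasModel.of_iso {X X' : Sp S} (e : X' ≅ X) (h : HasModel X) : HasModel X' := by
  obtain ⟨X₁, a, h₁, h₂, h₃, h₄, ha⟩ := h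
  exact ⟨X₁, e.hom ≫ a, h₁, h₂, h₃, h₄,
    isAffineMor_comp (isAffineMor_iff_repWith.2 (repWith_isIso e.hom)) ha⟩

/-- A family of two schemes. -/
def pairV (A B : Over S) : ULift.{u} Bool → Over S := fun i => cond i.down A B

/-- The map to the base of a representable sheaf. -/
theorem lfp_hom_of_lfpS {U : Over S} (h : LfpS ((yon S).obj U)) :
    LocallyOfFinitePresentation U.hom :=
  prop_of_locP_yon (h ((yon S).map (Over.homMk U.hom (Category.comp_id _))))

theorem lfpS_yon {U : Over S} (h : LocallyOfFinitePresentation U.hom) :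
    LfpS ((yon S).obj U) := fun q => by
  obtain ⟨g, rfl⟩ := (yon S).map_surjective q
  refine locP_of_repWith ((repWith_yon_map_iff _ _).2 ?_)
  have e : g.left = U.hom := by simpa using Over.w g
  rw [e]
  exact h

variable [QuasiSeparatedSpace S]

theorem LfpS.of_locP {X Y : Sp S} (hX : IsAlgSpace X) (hY : IsAlgSpace Y) (h : LfpS Y) {f : X ⟶ Y}
    (hf : LocP @LocallyOfFinitePresentation f) : LfpS X := fun q => by
  obtain ⟨q', hq'⟩ : ∃ q' : Y ⟶ (yon S).obj (Over.mk (𝟙 S)), f ≫ q' = q := by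
    obtain ⟨W, p, hp, hps⟩ := hY.atlas
    have hone : ∀ {Z : Over S} (a b : Z ⟶ Over.mk (𝟙 S)), a = b := fun {Z} a b =>
      Over.OverMorphism.ext (by
        have ha : a.left = Z.hom := by simpa using Over.w a
        have hb : b.left = Z.hom := by simpa using Over.w b
        rw [ha, hb])
    obtain ⟨q', -⟩ := exists_desc_of_etale p hp hps
      ((yon S).map (Over.homMk W.hom (Category.comp_id _))) fun Z p₁ p₂ _ => by
        obtain ⟨p₁, rfl⟩ := (yon S).map_surjective p₁
        obtain ⟨p₂, rfl⟩ := (yon S).map_surjective p₂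
        rw [← Functor.map_comp, ← Functor.map_comp, hone (p₁ ≫ _) (p₂ ≫ _)]
    refine ⟨q', hom_ext_yon fun T z => ?_⟩
    obtain ⟨a, ha⟩ := (yon S).map_surjective (z ≫ f ≫ q')
    obtain ⟨b, hb⟩ := (yon S).map_surjective (z ≫ q)
    rw [← ha, ← hb, hone a b]
  rw [← hq']
  exact locP_comp hX hY (IsAlgSpace.yon_obj _) hf (h q')

/-- The step of the approximation: adding one chart to an open. -/
theorem hasModel_step {X Os : Sp S} (hX : IsAlgSpace X) (hXqs : IsQuasiSeparatedSp X)
    (hOs : IsAlgSpace Os) (jO : Os ⟶ X) (hjO : RepWith @IsOpenImmersion jO)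
    (hM : HasModel Os) (V : Over S) [IsAffine V.left] {Sa : S.Opens} (hSa : IsAffineOpen Sa)
    (hV : Set.range V.hom ⊆ Sa) (g : (yon S).obj V ⟶ X) (hg : RepWith @Etale g)
    (hu : UniqueOver g (Set.range (AlgSp.Points.map jO))ᶜ)
    (hcov : ∀ x, x ∈ Set.range (AlgSp.Points.map jO) ∪ Set.range (AlgSp.Points.ofPt g)) :
    HasModel X := by
  classical
  obtain ⟨X₁, a, hX₁, hX₁c, hX₁s, hX₁f, ha⟩ := hM
  have : Mono jO := mono_of_repWith (fun _ _ k (_ : IsOpenImmersion k) => inferInstance) hjO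
  obtain ⟨I, hI, hI', hIne, D, t, c, hc, e, hD, hDa, ht, hte⟩ :=
    exists_limit_affine hX₁ hX₁c hX₁s ha
  have hDqc : ∀ i, IsQuasiCompactSp (D.obj i) := fun i =>
    isQuasiCompactSp_of_affineMor (hD i) (ht i).1 hX₁ hX₁c
  have hDqs : ∀ i, IsQuasiSeparatedSp (D.obj i) := fun i =>
    isQuasiSeparatedSp_of_affineMor (hD i) (ht i).1 hX₁s
  have hDf : ∀ i, LfpS (D.obj i) := fun i => LfpS.of_locP (hD i) hX₁ hX₁f (ht i).2.1
  -- the open of the chart over the open
  obtain ⟨W, ιW, w, sqW⟩ := hjO.rep g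
  have hιW : IsOpenImmersion ιW.left := hjO.property g w ιW sqW
  have hOqs : IsQuasiSeparatedSp Os := isQuasiSeparatedSp_of_mono hXqs jO
  have hOqc : IsQuasiCompactSp Os := isQuasiCompactSp_of_affineMor hOs ha hX₁ hX₁c
  have hqg : RepWith @QuasiCompact g := repWith_quasiCompact_of_qs hX hXqs g
  have hwqc : RepWith @QuasiCompact w := repWith_of_isPullback sqW.flip hqg
  have : CompactSpace W.left := by
    obtain ⟨TO, pO, hTO, hpO, hpOs⟩ := exists_affine_chart hOs hOqc
    obtain ⟨M, m, fM, sM⟩ := hwqc.rep pO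
    obtain ⟨fM, rfl⟩ := (yon S).map_surjective fM
    have : QuasiCompact m.left := hwqc.property pO _ m sM
    have : CompactSpace M.left := QuasiCompact.compactSpace_of_compactSpace m.left
    have : Surjective fM.left := hpOs.property w _ fM sM.flip
    exact fM.left.surjective.compactSpace fM.left.continuous
  have : IsOpenImmersion ιW.left := hιW
  have : QuasiSeparatedSpace W.left := quasiSeparatedSpace_of_quasiSeparated ιW.left
  have hw : RepWith @Etale w := repWith_of_isPullback sqW.flip hg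
  have : IsSeparated V.hom := by
    have : IsSeparated (V.hom ≫ terminal.from S) := by rw [terminal.comp_from]; infer_instance
    exact IsSeparated.of_comp V.hom (terminal.from S)
  have : IsSeparated W.hom := by rw [← Over.w ιW]; infer_instance
  have hws : RepWith @IsSeparated w := repWith_isSeparated_of_isSeparated hOs w
  -- models of the open part of the chart over a stage
  have hce : RepWith @Etale (w ≫ e.inv) :=
    repWith_comp hw (repWith_mono (P := @IsOpenImmersion)
      (fun _ _ k (_ : IsOpenImmersion k) => (inferInstance : Etale k)) (repWith_isIso e.inv))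
  have hcs : RepWith @IsSeparated (w ≫ e.inv) :=
    repWith_comp hws (repWith_mono (P := @IsOpenImmersion)
      (fun _ _ k (_ : IsOpenImmersion k) => (inferInstance : IsSeparated k)) (repWith_isIso e.inv))
  obtain ⟨i₀, W₀, w₀, q₀, hW₀c, hW₀s, hw₀e, hw₀s, sq₀⟩ :=
    exists_etale_scheme_model hD hDa hc hDqc hDqs (w ≫ e.inv) hce hcs
  obtain ⟨P⟩ := nonempty_pullSys D hDa hc i₀ w₀
  obtain ⟨ψ, hψ₁, hψ₂⟩ : ∃ ψ : W ≅ P.L.pt, (yon S).map ψ.hom ≫ P.top = w ≫ e.inv ∧
      ψ.hom ≫ P.bot = q₀ := by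
    refine ⟨(yon S).preimageIso (sq₀.flip.isoIsPullback _ _ P.sqTop), ?_, (yon S).map_injective ?_⟩
    · simp
    · simp
  have hkc : ∀ k, CompactSpace (P.E.obj k).left := fun k =>
    have := P.aff k
    QuasiCompact.compactSpace_of_compactSpace (P.q k).left
  have hks : ∀ k, QuasiSeparatedSpace (P.E.obj k).left := fun k =>
    have := P.aff k
    quasiSeparatedSpace_of_quasiSeparated (P.q k).left
  have hpe : ∀ k, RepWith @Etale (P.p k) := fun k => repWith_of_isPullback (P.sq k).flip hw₀e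
  have hkf : ∀ k, LocallyOfFinitePresentation (P.E.obj k).hom := fun k =>
    lfp_hom_of_lfpS (LfpS.of_locP (IsAlgSpace.yon_obj _) (hD k.left) (hDf k.left)
      (locP_lfp_of_etale (hpe k)))
  -- extend the open
  obtain ⟨k, V₀, ι₀, v, hV₀, hV₀f, hι₀, sqv⟩ := exists_openExtension P.E P.L P.isLimit
    (fun m => P.aff_map m) hkc hks hkf hSa hV (ψ.inv ≫ ιW) (by
      show IsOpenImmersion (ψ.inv.left ≫ ιW.left)
      infer_instance)
  let qW : W ⟶ P.E.obj k := ψ.hom ≫ P.L.π.app k
  have sqWV : IsPullback qW ιW ι₀ v := by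
    refine sqv.of_iso ψ.symm (Iso.refl _) (Iso.refl _) (Iso.refl _) ?_ ?_ ?_ ?_ <;> simp [qW]
  let ak : Os ⟶ D.obj k.left := e.inv ≫ c.π.app k.left
  have hak : IsAffineMor ak :=
    isAffineMor_comp (isAffineMor_iff_repWith.2 (repWith_isIso e.inv)) (isAffineMor_π D hDa hc _)
  have sqk : IsPullback w ((yon S).map qW) ak (P.p k) := by
    have h₁ : IsPullback P.top ((yon S).map (P.L.π.app k)) (c.π.app k.left) (P.p k) := by
      refine IsPullback.of_bot ?_ (P.top_π k) (P.sq k)
      rw [← Functor.map_comp, P.π_q, c.w]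
      exact P.sqTop
    refine h₁.of_iso ((yon S).mapIso ψ.symm) e (Iso.refl _) (Iso.refl _) ?_ ?_ ?_ ?_
    · show P.top ≫ e.hom = (yon S).map ψ.inv ≫ w
      rw [← cancel_mono e.inv, Category.assoc, Iso.hom_inv_id, Category.comp_id, Category.assoc,
        ← hψ₁, ← Functor.map_comp_assoc, Iso.inv_hom_id, CategoryTheory.Functor.map_id,
        Category.id_comp]
    · simp [qW]
    · simp [ak]
    · simp
  -- an atlas of the stage
  obtain ⟨T₁, p₁, hT₁, hp₁, hp₁s⟩ := exists_affine_chart (hD k.left) (hDqc k.left)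
  obtain ⟨TU, qT, aT, sqT⟩ := (isAffineMor_iff_repWith.1 hak).rep p₁
  have : IsAffineHom qT.left := (isAffineMor_iff_repWith.1 hak).property p₁ aT qT sqT
  have : IsAffine TU.left := isAffine_of_isAffineHom qT.left
  let A := pairV TU V
  let A' := pairV TU W
  let B := pairV T₁ V₀
  let B' := pairV T₁ (P.E.obj k)
  let γs : ∀ i, A i ⟶ B i := fun i => match i with | ⟨true⟩ => qT | ⟨false⟩ => v
  let γs' : ∀ i, A' i ⟶ B' i := fun i => match i with | ⟨true⟩ => qT | ⟨false⟩ => qW
  let ιs : ∀ i, A' i ⟶ A i := fun i => match i with | ⟨true⟩ => 𝟙 TU | ⟨false⟩ => ιW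
  let ιs₁ : ∀ i, B' i ⟶ B i := fun i => match i with | ⟨true⟩ => 𝟙 T₁ | ⟨false⟩ => ι₀
  have : ∀ i, IsAffine ((A i).left) := by rintro ⟨_ | _⟩ <;> assumption
  have : ∀ i, IsAffine ((B i).left) := by rintro ⟨_ | _⟩ <;> assumption
  have hAaff : IsAffine (sigmaObj A).left :=
    inferInstanceAs (IsAffine (∐ fun i => (A i).left))
  have hBaff : IsAffine (sigmaObj B).left :=
    inferInstanceAs (IsAffine (∐ fun i => (B i).left))
  let γ := sigmaMap γs
  let γ' := sigmaMap γs'
  let ι := sigmaMap ιs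
  let ι₁ := sigmaMap ιs₁
  have hιo : IsOpenImmersion ι.left := sigmaMap_prop (P := @IsOpenImmersion) ιs (by
    rintro ⟨_ | _⟩
    · exact hιW
    · exact inferInstanceAs (IsOpenImmersion (𝟙 TU.left)))
  have hι₁o : IsOpenImmersion ι₁.left := sigmaMap_prop (P := @IsOpenImmersion) ιs₁ (by
    rintro ⟨_ | _⟩
    · exact hι₀
    · exact inferInstanceAs (IsOpenImmersion (𝟙 T₁.left)))
  have sqι : IsPullback γ' ι ι₁ γ := by
    have hcomp : ∀ i, IsPullback (γs' i) (ιs i) (ιs₁ i) (γs i) := by
      rintro ⟨_ | _⟩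
      · exact sqWV
      · exact (IsPullback.id_horiz qT).flip
    obtain ⟨Q, hQ, sQ⟩ := exists_isPullback_sigma ((yon S).map ι₁) ((yon S).map γ)
      (fun i => (yon S).map (γs' i ≫ sigmaIncl B' i)) ιs fun i => by
        rw [← Functor.map_comp, sigmaIncl_map]
        exact ((hcomp i).paste_horiz (isPullback_component ιs₁ i)).map (yon S)
    have hQe : Q = (yon S).map γ' := sigma_hom_ext A' fun i => by
      rw [hQ, ← Functor.map_comp, sigmaIncl_map]
    rw [hQe] at sQ
    exact IsPullback.of_map (yon S) ((yon S).map_injective (by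
      simpa only [Functor.map_comp] using sQ.w)) sQ
  -- the etale map to the stage
  let pB : ∀ i, (yon S).obj (B' i) ⟶ D.obj k.left := fun i =>
    match i with | ⟨true⟩ => p₁ | ⟨false⟩ => P.p k
  obtain ⟨u₁, hu₁, -⟩ := Groth.AlgSp2.exists_glue B' pB
  have hu₁r := representable_of_diag (hD k.left).diag u₁
  have hu₁e : RepWith @Etale u₁ := Groth.HenselPoint.repWith_sigma u₁ fun i => by
    rw [hu₁]
    rcases i with ⟨_ | _⟩
    · exact hpe k
    · exact hp₁
  have hBsep : IsSeparated (sigmaObj B').hom := by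
    have : IsSeparated (sigmaObj B).hom := by
      have : IsSeparated ((sigmaObj B).hom ≫ terminal.from S) := by
        rw [terminal.comp_from]; infer_instance
      exact IsSeparated.of_comp (sigmaObj B).hom (terminal.from S)
    rw [← Over.w ι₁]
    infer_instance
  have hu₁s : RepWith @IsSeparated u₁ := repWith_isSeparated_of_isSeparated (hD k.left) u₁
  have hu₁j : RepWith @Surjective u₁ := repWith_surjective_of_ofPt hu₁r fun y => by
    obtain ⟨t₁, rfl⟩ := surjective_ofPt_of_repWith hp₁s y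
    refine ⟨(sigmaIncl B' ⟨true⟩).left t₁, ?_⟩
    rw [← ofPt_comp_yon, hu₁]
  -- the open part
  let qs : ∀ i, (yon S).obj (A' i) ⟶ Os := fun i => match i with | ⟨true⟩ => aT | ⟨false⟩ => w
  obtain ⟨u, hu', squ⟩ := exists_isPullback_sigma ak u₁ qs γs' fun i => by
    rw [hu₁]
    rcases i with ⟨_ | _⟩
    · exact sqk
    · exact sqT
  have hue : RepWith @Etale u := repWith_of_isPullback squ.flip hu₁e
  have haTe : RepWith @Etale aT := repWith_of_isPullback sqT.flip hp₁
  have haTs : RepWith @Surjective aT := repWith_of_isPullback sqT.flip hp₁s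
  -- the chart of the space
  let aA : ∀ i, (yon S).obj (A i) ⟶ X := fun i => match i with | ⟨true⟩ => aT ≫ jO | ⟨false⟩ => g
  obtain ⟨α, hα, -⟩ := Groth.AlgSp2.exists_glue A aA
  have hαe : RepWith @Etale α := Groth.HenselPoint.repWith_sigma α fun i => by
    rw [hα]
    rcases i with ⟨_ | _⟩
    · exact hg
    · exact repWith_comp haTe (repWith_mono
        (fun _ _ k (_ : IsOpenImmersion k) => (inferInstance : Etale k)) hjO)
  have hαs : RepWith @Surjective α := repWith_surjective_of_ofPt hαe.rep fun x => by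
    rcases hcov x with ⟨o, rfl⟩ | ⟨z, rfl⟩
    · obtain ⟨z, rfl⟩ := surjective_ofPt_of_repWith haTs o
      refine ⟨(sigmaIncl A ⟨true⟩).left z, ?_⟩
      rw [← ofPt_comp_yon, hα, AlgSp.Points.map_ofPt]
    · refine ⟨(sigmaIncl A ⟨false⟩).left z, ?_⟩
      rw [← ofPt_comp_yon, hα]
  have sqj : IsPullback u ((yon S).map ι) jO α := by
    obtain ⟨Q, hQ, sQ⟩ := exists_isPullback_sigma jO α qs ιs fun i => by
      rw [hα]
      rcases i with ⟨_ | _⟩
      · exact sqW
      · show IsPullback aT ((yon S).map (𝟙 TU)) jO (aT ≫ jO)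
        rw [CategoryTheory.Functor.map_id]
        exact (isPullback_of_mono_comp rfl).flip
    have hQe : Q = u := sigma_hom_ext A' fun i => by rw [hQ, hu']
    rwa [hQe] at sQ
  have hkA : ∀ {Z : Over S} (x y : Z ⟶ sigmaObj A),
      (yon S).map x ≫ α = (yon S).map y ≫ α ↔ LocalRel ι u x y := by
    refine fun x y => map_eq_iff_localRel hX hαe sqj hjO (fun {Z} x y exy hx hy => ?_) x y
    have out : ∀ (z : Z ⟶ sigmaObj A), (∀ p, z.left p ∉ Set.range ι.left) →
        ∃ z' : Z ⟶ V, z' ≫ sigmaIncl A ⟨false⟩ = z ∧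
          ∀ p, AlgSp.Points.ofPt ((yon S).map z' ≫ g) p ∉ Set.range (AlgSp.Points.map jO) := by
      intro z hz
      have hmem : ∀ p, z.left p ∈ Set.range (sigmaIncl A ⟨false⟩).left := by
        intro p
        obtain ⟨⟨_ | _⟩, b, hb⟩ := Groth.HenselPoint.exists_sigmaIncl_eq (z.left p)
        · exact ⟨b, hb⟩
        · refine absurd ⟨(sigmaIncl A' ⟨true⟩).left b, ?_⟩ (hz p)
          rw [← Scheme.Hom.comp_apply, ← Over.comp_left, sigmaIncl_map, ← hb]
          rfl
      have : IsOpenImmersion (sigmaIncl A ⟨false⟩).left :=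
        inferInstanceAs (IsOpenImmersion (Sigma.ι (fun i => (A i).left) _))
      let z' : Z ⟶ V := Over.homMk (IsOpenImmersion.lift (sigmaIncl A ⟨false⟩).left z.left
          (by rintro _ ⟨p, rfl⟩; exact hmem p))
        (by
          refine Eq.trans ?_ (Over.w z)
          conv_rhs => rw [← IsOpenImmersion.lift_fac (sigmaIncl A ⟨false⟩).left z.left
            (by rintro _ ⟨p, rfl⟩; exact hmem p)]
          rw [Category.assoc, Over.w (sigmaIncl A ⟨false⟩)]
          rfl)
      have hz' : z' ≫ sigmaIncl A ⟨false⟩ = z :=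
        Over.OverMorphism.ext (IsOpenImmersion.lift_fac _ _ _)
      refine ⟨z', hz', fun p => ?_⟩
      rintro ⟨o, ho⟩
      rw [ofPt_comp_yon] at ho
      obtain ⟨w', -, hw'⟩ := (map_eq_ofPt_iff sqW o (z'.left p)).1 ho
      refine hz p ⟨(sigmaIncl A' ⟨false⟩).left w', ?_⟩
      rw [← Scheme.Hom.comp_apply, ← Over.comp_left, sigmaIncl_map, Over.comp_left,
        Scheme.Hom.comp_apply]
      show (sigmaIncl A ⟨false⟩).left (ιW.left w') = _
      rw [hw']
      exact congrArg (fun f : Z ⟶ sigmaObj A => f.left p) hz'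
    obtain ⟨x', rfl, hx'⟩ := out x hx
    obtain ⟨y', rfl, hy'⟩ := out y hy
    congr 1
    refine hu x' y' ?_ fun p => hx' p
    simpa only [Functor.map_comp, Category.assoc, hα] using exy
  -- the model
  obtain ⟨M, π, j₁, hM, hπe, hπs, hkB, -, -, hprops⟩ :=
    exists_gluing (ι := ι₁) (hD k.left) hu₁e hu₁s hu₁j
  obtain ⟨q, sqq⟩ := exists_isPullback_gluing sqι squ hαe hαs hkA hkB
  have : ∀ i, CompactSpace (B' i).left := by
    rintro ⟨_ | _⟩
    · exact hkc k
    · exact inferInstanceAs (CompactSpace T₁.left)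
  have : CompactSpace (sigmaObj B').left :=
    (sigmaMk fun i => (B' i).left).compactSpace
  have hpq : QuasiSeparatedSpace ↥(sigmaObj B ⨯ sigmaObj B).left := by
    have : QuasiSeparatedSpace ↥(pullback (sigmaObj B).hom (sigmaObj B).hom) :=
      quasiSeparatedSpace_of_quasiSeparated (pullback.fst (sigmaObj B).hom (sigmaObj B).hom)
    exact quasiSeparatedSpace_of_quasiSeparated
      (Over.prodLeftIsoPullback (sigmaObj B) (sigmaObj B)).hom
  obtain ⟨hMc, hMs⟩ := hprops (repWith_quasiCompact_of_compact (hD k.left) (hDqs k.left) u₁)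
    inferInstance inferInstance hpq
  have hBlfp : LocallyOfFinitePresentation (sigmaObj B).hom := by
    refine (IsZariskiLocalAtSource.iff_of_openCover (P := @LocallyOfFinitePresentation)
      (sigmaOpenCover fun i => (B i).left)).2 fun i => ?_
    have hBi : LocallyOfFinitePresentation (B i).hom := by
      rcases i with ⟨_ | _⟩
      · exact hV₀f
      · exact lfp_hom_of_lfpS (LfpS.of_locP (IsAlgSpace.yon_obj _) (hD k.left) (hDf k.left)
          (locP_lfp_of_etale hp₁))
    exact (Over.w (sigmaIncl B i)).symm ▸ hBi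
  refine ⟨M, q, hM, hMc, hMs, fun s => ?_, ?_⟩
  · exact locP_of_source_cover hM (IsAlgSpace.yon_obj _) hπe hπs (lfpS_yon hBlfp (π ≫ s))
  · have hγ : IsAffineHom γ.left := isAffineHom_of_isAffine γ.left
    exact affWith_isAffineHom_iff.1 (affWith_of_cover hM hπe hπs sqq
      (affWith_of_repWith le_rfl ((repWith_yon_map_iff _ γ).2 hγ)))

end

end Groth.AlgSp2.Absolute
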