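import Groth.Agent.AlgSp2.Absolute.RelApprox
import Groth.Agent.AlgSp2.Approx.FiniteFP
import Groth.Agent.SpLimit.SepEventual

/-!
# Finite type morphisms are closed subspaces of finitely presented ones
-/

set_option autoImplicit false
set_option linter.unusedSectionVars false
set_option backward.isDefEq.respectTransparency false
set_option backward.isDefEq.respectTransparency.types false
universe u

open CategoryTheory CategoryTheory.Limits AlgebraicGeometry TopologicalSpace Opposite AlgSp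
open Groth.AlgSpBasic Groth.AlgSp2 Groth.AlgSp2.Approx Groth.SpLimit

namespace Groth.AlgSp2.Absolute

noncomputable section

variable {S : Scheme.{u}} {X Y : Sp S}

/-- The source of a quasi-compact morphism to a quasi-compact space is quasi-compact. -/
theorem isQuasiCompactSp_of_qcMor (hY : IsAlgSpace Y) (hYc : IsQuasiCompactSp Y) {f : X ⟶ Y}
    (hf : IsQuasiCompactMor f) : IsQuasiCompactSp X :=
  hf hY hYc (𝟙 Y) (𝟙 X) f (IsPullback.of_horiz_isIso ⟨by simp⟩)

/-- The source of a separated morphism to a quasi-separated space is quasi-separated. -/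
theorem isQuasiSeparatedSp_of_sepMor {f : X ⟶ Y} (hf : IsSeparatedMor f)
    (hYs : IsQuasiSeparatedSp Y) : IsQuasiSeparatedSp X :=
  isQuasiSeparatedSp_of_mor (f := f)
    (repWith_mono (P := @IsClosedImmersion)
      (fun _ _ k (_ : IsClosedImmersion k) => (inferInstance : QuasiCompact k)) hf) hYs

/-- The source of a quasi-affine morphism to a qcqs space is qcqs. -/
theorem qcqs_of_quasiAffine (hY : IsAlgSpace Y) {f : X ⟶ Y} (hf : IsQuasiAffineMor f)
    (hX : IsAlgSpace X) (hYc : IsQuasiCompactSp Y) (hYs : IsQuasiSeparatedSp Y) :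
    IsQuasiCompactSp X ∧ IsQuasiSeparatedSp X := by
  constructor
  · obtain ⟨T, b, hT, hbe, hbs⟩ := exists_affine_chart hY hYc
    obtain ⟨W, w, fst, sq, hW⟩ := hf hT b
    have := hW
    exact ⟨W, fst, repWith_of_isPullback sq.flip hbe, repWith_of_isPullback sq.flip hbs,
      inferInstance⟩
  · refine isQuasiSeparatedSp_of_sepMor (f := f) ?_ hYs
    have hr : RepWith @IsSeparated f := repWith_of_local fun T g t => by
      obtain ⟨j, y, rfl⟩ := T.left.affineCover.exists_eq t
      let T₀ : Over S := Over.mk (T.left.affineCover.f j ≫ T.hom)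
      let c₀ : T₀ ⟶ T := Over.homMk (T.left.affineCover.f j)
      have hT₀ : IsAffine T₀.left := inferInstanceAs (IsAffine (T.left.affineCover.X j))
      obtain ⟨W, w, fst, sq, hW⟩ := hf hT₀ ((yon S).map c₀ ≫ g)
      have := hW
      refine ⟨T₀, c₀, W, w, fst, inferInstanceAs (IsOpenImmersion (T.left.affineCover.f j)),
        ⟨y, rfl⟩, sq, ?_⟩
      have : IsSeparated (w.left ≫ terminal.from T₀.left) := by
        rw [terminal.comp_from]; infer_instance
      exact IsSeparated.of_comp w.left (terminal.from T₀.left)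
    exact (repWith_isSeparated_iff hr.rep).2 hr

variable [QuasiSeparatedSpace S]

/-- A morphism of finite type between qcqs spaces is a closed subspace of one of finite
presentation. -/
theorem exists_closed_fp (hX : IsAlgSpace X) (hXc : IsQuasiCompactSp X)
    (hXs : IsQuasiSeparatedSp X) (hY : IsAlgSpace Y) (hYc : IsQuasiCompactSp Y)
    (hYs : IsQuasiSeparatedSp Y) {f : X ⟶ Y} (hf : LocP @LocallyOfFiniteType f) :
    ∃ (T : Sp S) (i : X ⟶ T) (ν : T ⟶ Y), i ≫ ν = f ∧ IsAlgSpace T ∧ IsQuasiCompactSp T ∧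
      IsQuasiSeparatedSp T ∧ RepWith @IsClosedImmersion i ∧ IsFinitePresentationMor ν := by
  obtain ⟨Q, a, b, hab, hQ, hQc, hQs, ha, hb⟩ := exists_fp_factor_qc hX hXc hXs hY hYc hYs f
  have hal : LocP @LocallyOfFiniteType a := by
    refine locP_of_comp_of_cancel (fun A B C f g h => ?_) hX hQ hY (g := b) (hab ▸ hf)
    have := h
    exact locallyOfFiniteType_of_comp f g
  have har : RepWith @IsAffineHom a := isAffineMor_iff_repWith.1 ha
  have haQ : AffWith AffFT a := affWith_of_repWith (fun _ _ k (h : AffFT k) => h.1)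
    (repWith_inf_iff.2 ⟨har, repWith_of_locP hQ har.rep hal⟩)
  obtain ⟨T, ν₀, i, hT, hν₀, hν₀f, hi, hfac⟩ := exists_envelope haQ hQ hQc hQs
  have hνa : IsAffineMor ν₀ := affWith_isAffineHom_iff.1
    (affWith_mono (Q := AffFT) (Q' := @IsAffineHom) (fun _ _ k (h : AffFT k) => h.1) hν₀)
  have hTc := isQuasiCompactSp_of_affineMor hT hνa hQ hQc
  have hTs := isQuasiSeparatedSp_of_affineMor hT hνa hQs
  exact ⟨T, i, ν₀ ≫ b, by rw [reassoc_of% hfac, hab], hT, hTc, hTs, hi,
    isFinitePresentationMor_of_locP hT hY hTc hTs hYs (locP_comp hT hQ hY hν₀f hb)⟩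

/-- The finitely presented closed subspaces of a finitely presented space containing a given one. -/
theorem exists_limit_closed_fp (hX : IsAlgSpace X) (hXc : IsQuasiCompactSp X)
    (hXs : IsQuasiSeparatedSp X) (hY : IsAlgSpace Y) (hYc : IsQuasiCompactSp Y)
    (hYs : IsQuasiSeparatedSp Y) {f : X ⟶ Y} (hf : LocP @LocallyOfFiniteType f) :
    ∃ (I : Type u) (_ : Preorder I) (_ : IsDirected I (fun a b => a ≤ b)) (_ : Nonempty I)
      (D : Iᵒᵖ ⥤ Sp S) (t : D ⟶ (Functor.const Iᵒᵖ).obj Y) (π : (Functor.const Iᵒᵖ).obj X ⟶ D)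
      (_ : IsLimit (Cone.mk X π)), (∀ i, IsAlgSpace (D.obj i)) ∧
      (∀ (i j : Iᵒᵖ) (φ : i ⟶ j), RepWith @IsClosedImmersion (D.map φ)) ∧
      (∀ i, RepWith @IsClosedImmersion (π.app i)) ∧
      (∀ i, IsQuasiCompactSp (D.obj i) ∧ IsQuasiSeparatedSp (D.obj i)) ∧
      (∀ i, IsFinitePresentationMor (t.app i)) ∧ (∀ i, π.app i ≫ t.app i = f) := by
  obtain ⟨T, h, ν, hfac, hT, hTc, hTs, hh, hν⟩ := exists_closed_fp hX hXc hXs hY hYc hYs hf
  obtain ⟨A⟩ := exists_atlas hT hTc hTs
  obtain ⟨I, hI, hI', hIne, D, t, π, hc, hD, hDc, ht, hπ⟩ := exists_closed_limit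
    (ν := 𝟙 T) (isAffineMor_iff_repWith.2 (repWith_isIso _)) hh hT hT A
  have htaff : ∀ i, IsAffineMor (t.app i) := fun i => isAffineMor_iff_repWith.2
    (repWith_mono (P := @IsClosedImmersion)
      (fun _ _ k (_ : IsClosedImmersion k) => (inferInstance : IsAffineHom k)) (ht i).1)
  have hDq : ∀ i, IsQuasiCompactSp (D.obj i) ∧ IsQuasiSeparatedSp (D.obj i) := fun i =>
    ⟨isQuasiCompactSp_of_affineMor (hD i) (htaff i) hT hTc,
      isQuasiSeparatedSp_of_affineMor (hD i) (htaff i) hTs⟩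
  refine ⟨I, hI, hI', hIne, D, t ≫ (Functor.const Iᵒᵖ).map ν, π, hc, hD, hDc, fun i => ?_, hDq,
    fun i => isFinitePresentationMor_of_locP (hD i) hY (hDq i).1 (hDq i).2 hYs
      (locP_comp (hD i) hT hY (ht i).2.1 hν.1), fun i => ?_⟩
  · have : Mono (t.app i) :=
      mono_of_repWith (fun _ _ g (_ : IsClosedImmersion g) => inferInstance) (ht i).1
    exact repWith_of_isPullback (isPullback_of_mono_comp (hπ i)) hh
  · rw [NatTrans.comp_app, Functor.const_map_app, reassoc_of% (hπ i), hfac]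

/-- A separated morphism of finite type to a qcqs space is a limit of separated finitely presented
ones, with closed immersions as transition maps. -/
theorem exists_limit_closed_separated (hX : IsAlgSpace X) (hY : IsAlgSpace Y)
    (hYc : IsQuasiCompactSp Y) (hYs : IsQuasiSeparatedSp Y) {f : X ⟶ Y}
    (hf : IsFiniteTypeMor f) (hsep : IsSeparatedMor f) :
    ∃ (I : Type u) (_ : Preorder I) (_ : IsDirected I (fun a b => a ≤ b)) (_ : Nonempty I)
      (D : Iᵒᵖ ⥤ Sp S) (t : D ⟶ (Functor.const Iᵒᵖ).obj Y) (π : (Functor.const Iᵒᵖ).obj X ⟶ D)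
      (_ : IsLimit (Cone.mk X π)), (∀ i, IsAlgSpace (D.obj i)) ∧
      (∀ (i j : Iᵒᵖ) (φ : i ⟶ j), RepWith @IsClosedImmersion (D.map φ)) ∧
      (∀ i, RepWith @IsClosedImmersion (π.app i)) ∧
      (∀ i, IsQuasiCompactSp (D.obj i) ∧ IsQuasiSeparatedSp (D.obj i)) ∧
      (∀ i, IsFinitePresentationMor (t.app i)) ∧ (∀ i, π.app i ≫ t.app i = f) ∧
      ∃ i₀ : Iᵒᵖ, ∀ (i : Iᵒᵖ) (_ : i ⟶ i₀), IsSeparatedMor (t.app i) := by
  obtain ⟨I, hI, hI', hIne, D, t, π, hc, hD, hDc, hπc, hDq, ht, hπ⟩ := exists_limit_closed_fp hX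
    (isQuasiCompactSp_of_qcMor hY hYc hf.2) (isQuasiSeparatedSp_of_sepMor hsep hYs) hY hYc hYs hf.1
  exact ⟨I, hI, hI', hIne, D, t, π, hc, hD, hDc, hπc, hDq, ht, hπ,
    exists_isSeparated_app hc hD (fun i j φ => isAffineMor_iff_repWith.2
      (repWith_mono (P := @IsClosedImmersion)
        (fun _ _ k (_ : IsClosedImmersion k) => (inferInstance : IsAffineHom k)) (hDc i j φ)))
      (fun i => (hDq i).1) (fun i => (hDq i).2) hY hYs t f hπ hsep⟩

end

end Groth.AlgSp2.Absolute
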