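import Groth.Agent.AlgSp2.InfGlue
import Groth.Agent.AlgSp2.FpqcRep
import Groth.Agent.AlgSp3.NormStable
import Groth.Agent.AlgSpBasic.Quotient

/-!
# Cartesian squares between spaces given by compatible coverings
-/

set_option autoImplicit false
set_option linter.unusedSectionVars false
set_option backward.isDefEq.respectTransparency.types false
universe u

open CategoryTheory CategoryTheory.Limits AlgebraicGeometry Opposite AlgSp

namespace Groth.AlgSp2.Absolute

open Groth.AlgSpBasic Groth.AlgSp2 Groth.AlgSp3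

noncomputable section

variable {S : Scheme.{u}} {A B : Over S} {X X₀ : Sp S} {a : (yon S).obj A ⟶ X}
  {π : (yon S).obj B ⟶ X₀} {q : X ⟶ X₀} {γ : A ⟶ B}

/-- A map descending a map of etale coverings gives a cartesian square, if points with the same image
in both are equal and lifts exist. -/
theorem isPullback_of_covers (ha : RepWith @Etale a) (has : RepWith @Surjective a)
    (w : a ≫ q = (yon S).map γ ≫ π)
    (uniq : ∀ {Z : Over S} (x y : Z ⟶ A), (yon S).map x ≫ a = (yon S).map y ≫ a →
      x ≫ γ = y ≫ γ → x = y)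
    (ex : ∀ {Z : Over S} (x : Z ⟶ A) (y : Z ⟶ B),
      (yon S).map (x ≫ γ) ≫ π = (yon S).map y ≫ π →
      ∃ x' : Z ⟶ A, (yon S).map x' ≫ a = (yon S).map x ≫ a ∧ x' ≫ γ = y) :
    IsPullback a ((yon S).map γ) q π := by
  have sP := IsPullback.of_hasPullback q π
  let l := sP.lift a ((yon S).map γ) w
  have hl₁ : l ≫ pullback.fst q π = a := sP.lift_fst _ _ _
  have hl₂ : l ≫ pullback.snd q π = (yon S).map γ := sP.lift_snd _ _ _
  have : IsIso l := by
    refine isIso_of_bijective_comp _ fun T => ⟨fun z z' e => ?_, fun z => ?_⟩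
    · obtain ⟨z, rfl⟩ := (yon S).map_surjective z
      obtain ⟨z', rfl⟩ := (yon S).map_surjective z'
      refine congrArg (yon S).map (uniq z z' ?_ ((yon S).map_injective ?_))
      · simpa [hl₁] using congrArg (fun k => k ≫ pullback.fst q π) e
      · simpa [hl₂] using congrArg (fun k => k ≫ pullback.snd q π) e
    · obtain ⟨y, hy⟩ := (yon S).map_surjective (z ≫ pullback.snd q π)
      have hz : (z ≫ pullback.fst q π) ≫ q = (yon S).map y ≫ π := by
        rw [Category.assoc, pullback.condition, hy, Category.assoc]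
      obtain ⟨W, c, x₀, sq⟩ := ha.rep (z ≫ pullback.fst q π)
      obtain ⟨x, rfl⟩ := (yon S).map_surjective x₀
      have : Etale c.left := ha.property _ _ c sq
      have : Surjective c.left := has.property _ _ c sq
      have hw : (yon S).map x ≫ a = (yon S).map c ≫ z ≫ pullback.fst q π := sq.w
      obtain ⟨x', hx', hxγ⟩ := ex x (c ≫ y) (by
        rw [Functor.map_comp, Category.assoc, ← w, reassoc_of% hw, ← Category.assoc z, hz,
          Functor.map_comp, Category.assoc])
      obtain ⟨m₀, hm⟩ := exists_glue_of_fppf c ((yon S).map x') fun V p r e => by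
        have e' : (yon S).map (p ≫ c) = (yon S).map (r ≫ c) := congrArg (yon S).map e
        rw [← Functor.map_comp, ← Functor.map_comp]
        refine congrArg (yon S).map (uniq _ _ ?_ (by simp only [Category.assoc, hxγ, reassoc_of% e]))
        simp only [Functor.map_comp] at e'
        simp only [Functor.map_comp, Category.assoc, hx', hw, reassoc_of% e']
      refine ⟨m₀, hom_ext_of_fppf c ?_⟩
      show (yon S).map c ≫ m₀ ≫ l = _
      rw [reassoc_of% hm]
      refine sP.hom_ext ?_ ?_
      · simp only [Category.assoc, hl₁, hx', hw]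
      · simp only [Category.assoc, hl₂]
        rw [← Functor.map_comp, hxγ, Functor.map_comp, hy]
  refine IsPullback.of_iso (IsPullback.of_hasPullback q π) (asIso l).symm (Iso.refl _) (Iso.refl _)
    (Iso.refl _) ?_ ?_ (by simp) (by simp)
  · simp only [Iso.refl_hom, Category.comp_id, Iso.symm_hom, asIso_inv]
    rw [IsIso.eq_inv_comp, hl₁]
  · simp only [Iso.refl_hom, Category.comp_id, Iso.symm_hom, asIso_inv]
    rw [IsIso.eq_inv_comp, hl₂]

/-- Maps of coverings compatible with the kernels descend to cartesian squares. -/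
theorem exists_isPullback_of_covers (ha : RepWith @Etale a) (has : RepWith @Surjective a)
    (hγ : ∀ {Z : Over S} (x y : Z ⟶ A), (yon S).map x ≫ a = (yon S).map y ≫ a →
      (yon S).map (x ≫ γ) ≫ π = (yon S).map (y ≫ γ) ≫ π)
    (uniq : ∀ {Z : Over S} (x y : Z ⟶ A), (yon S).map x ≫ a = (yon S).map y ≫ a →
      x ≫ γ = y ≫ γ → x = y)
    (ex : ∀ {Z : Over S} (x : Z ⟶ A) (y : Z ⟶ B),
      (yon S).map (x ≫ γ) ≫ π = (yon S).map y ≫ π →
      ∃ x' : Z ⟶ A, (yon S).map x' ≫ a = (yon S).map x ≫ a ∧ x' ≫ γ = y) :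
    ∃ q : X ⟶ X₀, IsPullback a ((yon S).map γ) q π := by
  obtain ⟨q, hq⟩ := exists_desc_of_etale a ha has ((yon S).map γ ≫ π) fun Z p r e => by
    obtain ⟨p, rfl⟩ := (yon S).map_surjective p
    obtain ⟨r, rfl⟩ := (yon S).map_surjective r
    rw [← Functor.map_comp_assoc, ← Functor.map_comp_assoc]
    exact hγ p r e
  exact ⟨q, isPullback_of_covers ha has hq uniq ex⟩

end

end Groth.AlgSp2.Absolute
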