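import Groth.Agent.AlgSp2.Absolute.StageOpens
import Groth.Agent.AlgSp3.NormStable

/-!
# The data of a scheme etale and separated over a limit, at a stage
-/

set_option autoImplicit false
set_option linter.unusedSectionVars false
set_option backward.isDefEq.respectTransparency false
set_option backward.isDefEq.respectTransparency.types false

universe u

open CategoryTheory CategoryTheory.Limits AlgebraicGeometry Opposite AlgSp
open Groth.AlgSpBasic Groth.SpLimit Groth.AlgSp3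

noncomputable section

namespace Groth.AlgSp2.Absolute

variable {S : Scheme.{u}}

theorem preimage_eq_top_iff {X Y : Scheme.{u}} (f : X ⟶ Y) (O : Y.Opens) :
    f ⁻¹ᵁ O = ⊤ ↔ ∀ t, f t ∈ O :=
  ⟨fun h t => (h.ge (Set.mem_univ t) : t ∈ f ⁻¹ᵁ O), fun h => top_le_iff.1 fun t _ => h t⟩

theorem quasiSeparatedSpace_of_diag [QuasiSeparatedSpace S] {X : Sp S} (hX : IsAlgSpace X)
    {U V R : Over S} [IsAffine U.left] [IsAffine V.left] {a : (yon S).obj U ⟶ X}
    {b : (yon S).obj V ⟶ X} {r₁ : R ⟶ U} {r₂ : R ⟶ V}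
    (sq : IsPullback ((yon S).map r₁) ((yon S).map r₂) a b) : QuasiSeparatedSpace R.left := by
  have hm : IsSeparated (prod.lift r₁ r₂).left :=
    (monoLFT_le _ (prop_lift_of_repWith_diag (monoLFT_diag hX) sq)).1
  have : QuasiSeparatedSpace (U ⨯ V).left := by
    have : QuasiSeparatedSpace ↥(pullback U.hom V.hom) :=
      quasiSeparatedSpace_of_quasiSeparated (pullback.fst U.hom V.hom)
    exact quasiSeparatedSpace_of_quasiSeparated (Over.prodLeftIsoPullback U V).hom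
  exact quasiSeparatedSpace_of_quasiSeparated (prod.lift r₁ r₂).left

variable {I : Type u} [SmallCategory I] [IsCofiltered I] {D : I ⥤ Sp S} (c : Cone D)
  {E₀ W : Over S} (a : E₀ ⟶ W) (w : (yon S).obj W ⟶ c.pt)

/-- An affine etale chart over a stage whose base change covers the given scheme, with the open of
pairs of points with the same image in it. -/
structure Dat : Type (u + 1) where
  i : I
  {B : Over S}
  {R : Over S}
  b : (yon S).obj B ⟶ D.obj i
  γ : E₀ ⟶ B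
  sq : IsPullback ((yon S).map γ) ((yon S).map a ≫ w) b (c.π.app i)
  affine : IsAffine B.left
  etale : RepWith @Etale b
  r₁ : R ⟶ B
  r₂ : R ⟶ B
  sqR : IsPullback ((yon S).map r₁) ((yon S).map r₂) b b
  O : R.left.Opens
  compact : IsCompact (O : Set R.left)
  mem : ∀ (Z : Over S) (x y : Z ⟶ E₀) (z : Z ⟶ R), x ≫ γ = z ≫ r₁ → y ≫ γ = z ≫ r₂ →
    (yon S).map x ≫ (yon S).map a ≫ w = (yon S).map y ≫ (yon S).map a ≫ w →
    (x ≫ a = y ≫ a ↔ z.left ⁻¹ᵁ O = ⊤)

variable {c a w} (d : Dat c a w)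

/-- Two points of the chart are related if their pair lies in the open. -/
def Dat.Rel {Z : Over S} (x y : Z ⟶ d.B) : Prop :=
  ∃ z : Z ⟶ d.R, z ≫ d.r₁ = x ∧ z ≫ d.r₂ = y ∧ z.left ⁻¹ᵁ d.O = ⊤

theorem Dat.rel_base {Z : Over S} {x y : Z ⟶ d.B} (h : d.Rel x y) :
    (yon S).map x ≫ d.b = (yon S).map y ≫ d.b := by
  obtain ⟨z, rfl, rfl, -⟩ := h
  rw [Functor.map_comp, Functor.map_comp, Category.assoc, Category.assoc, d.sqR.w]

/-- On the points over the limit, the relation is equality of images. -/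
theorem Dat.rel_iff {Z : Over S} (x y : Z ⟶ E₀)
    (h : (yon S).map x ≫ (yon S).map a ≫ w = (yon S).map y ≫ (yon S).map a ≫ w) :
    d.Rel (x ≫ d.γ) (y ≫ d.γ) ↔ x ≫ a = y ≫ a := by
  constructor
  · rintro ⟨z, h₁, h₂, h₃⟩
    exact (d.mem Z x y z h₁.symm h₂.symm h).2 h₃
  · intro e
    obtain ⟨z, hz⟩ := (yon S).map_surjective (d.sqR.lift ((yon S).map (x ≫ d.γ))
      ((yon S).map (y ≫ d.γ)) (by
        rw [Functor.map_comp, Functor.map_comp, Category.assoc, Category.assoc, d.sq.w,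
          ← Category.assoc, ← Category.assoc ((yon S).map y), h]))
    have h₁ : z ≫ d.r₁ = x ≫ d.γ := (yon S).map_injective (by
      rw [Functor.map_comp, hz, d.sqR.lift_fst])
    have h₂ : z ≫ d.r₂ = y ≫ d.γ := (yon S).map_injective (by
      rw [Functor.map_comp, hz, d.sqR.lift_snd])
    exact ⟨z, h₁, h₂, (d.mem Z x y z h₁.symm h₂.symm h).1 e⟩

variable (hD : ∀ i, IsAlgSpace (D.obj i)) (hDa : ∀ (i j : I) (φ : i ⟶ j), IsAffineMor (D.map φ))
  (hc : IsLimit c) (hqs : ∀ i, IsQuasiSeparatedSp (D.obj i)) [QuasiSeparatedSpace S]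

include hD hqs in
theorem Dat.compact_R : CompactSpace d.R.left ∧ QuasiSeparatedSpace d.R.left := by
  have := d.affine
  exact ⟨compactSpace_pullback_of_qs (hqs d.i) d.sqR, quasiSeparatedSpace_of_diag (hD d.i) d.sqR⟩

include hD hDa hc hqs in
/-- The data pass to every later stage, with the relation read off the old one. -/
theorem Dat.exists_pull {i' : I} (φ : i' ⟶ d.i) :
    ∃ d' : Dat c a w, ∃ (e : d'.i = i') (q : d'.B ⟶ d.B),
      IsPullback (d'.b ≫ eqToHom (congrArg D.obj e)) ((yon S).map q) (D.map φ) d.b ∧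
      d'.γ ≫ q = d.γ ∧
      ∀ {Z : Over S} (x y : Z ⟶ d'.B),
        (yon S).map x ≫ d'.b = (yon S).map y ≫ d'.b → (d'.Rel x y ↔ d.Rel (x ≫ q) (y ≫ q)) := by
  obtain ⟨P⟩ := nonempty_pullSys D hDa hc d.i d.b
  let k : Over d.i := Over.mk φ
  have := d.affine
  have : IsAffineHom (P.q k).left := P.aff k
  have : IsAffine (P.E.obj k).left := isAffine_of_isAffineHom (P.q k).left
  obtain ⟨γ', hγ'⟩ := (yon S).map_surjective ((P.sq k).lift (((yon S).map a ≫ w) ≫ c.π.app i')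
    ((yon S).map d.γ) (by rw [Category.assoc, c.w]; exact d.sq.w.symm))
  have h₁ : γ' ≫ P.q k = d.γ := (yon S).map_injective (by
    rw [Functor.map_comp, hγ', (P.sq k).lift_snd])
  have h₂ : (yon S).map γ' ≫ P.p k = ((yon S).map a ≫ w) ≫ c.π.app i' := by
    rw [hγ', (P.sq k).lift_fst]
  obtain ⟨R', s₁, s₂, sqR'⟩ := exists_pullback_of_diag (hD i').diag (P.p k) (P.p k)
  obtain ⟨ρ, hρ⟩ := (yon S).map_surjective (d.sqR.lift ((yon S).map (s₁ ≫ P.q k))
    ((yon S).map (s₂ ≫ P.q k)) (by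
      rw [Functor.map_comp, Functor.map_comp, Category.assoc, Category.assoc, ← (P.sq k).w,
        reassoc_of% sqR'.w]))
  have hρ₁ : ρ ≫ d.r₁ = s₁ ≫ P.q k := (yon S).map_injective (by
    rw [Functor.map_comp, hρ, d.sqR.lift_fst])
  have hρ₂ : ρ ≫ d.r₂ = s₂ ≫ P.q k := (yon S).map_injective (by
    rw [Functor.map_comp, hρ, d.sqR.lift_snd])
  have hρc : IsCompact ((ρ.left ⁻¹ᵁ d.O : R'.left.Opens) : Set R'.left) := by
    have := (d.compact_R hD hqs).2
    have : CompactSpace R'.left := compactSpace_pullback_of_qs (hqs i') sqR'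
    exact QuasiCompact.isCompact_preimage (f := ρ.left) _ d.O.2 d.compact
  refine ⟨⟨i', P.p k, γ', ?_, inferInstance, repWith_of_isPullback (P.sq k).flip d.etale,
    s₁, s₂, sqR', ρ.left ⁻¹ᵁ d.O, hρc, fun Z x y z hx hy h => ?_⟩, rfl, P.q k, ?_, h₁,
    fun {Z} x y hxy => ?_⟩
  · refine IsPullback.of_right ?_ h₂ (P.sq k).flip
    rw [← Functor.map_comp, h₁]
    exact (c.w φ).symm ▸ d.sq
  · rw [← Scheme.Hom.comp_preimage, ← Over.comp_left]
    exact d.mem Z x y (z ≫ ρ) (by rw [← h₁, reassoc_of% hx, Category.assoc, hρ₁])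
      (by rw [← h₁, reassoc_of% hy, Category.assoc, hρ₂]) h
  · show IsPullback (P.p k ≫ eqToHom rfl) _ _ _
    rw [eqToHom_refl, Category.comp_id]
    exact P.sq k
  · constructor
    · rintro ⟨z, rfl, rfl, hz⟩
      exact ⟨z ≫ ρ,
        (Category.assoc _ _ _).trans ((congrArg (z ≫ ·) hρ₁).trans (Category.assoc _ _ _).symm),
        (Category.assoc _ _ _).trans ((congrArg (z ≫ ·) hρ₂).trans (Category.assoc _ _ _).symm),
        by rw [Over.comp_left, Scheme.Hom.comp_preimage]; exact hz⟩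
    · rintro ⟨z, hz₁, hz₂, hz⟩
      obtain ⟨z', hz'⟩ := (yon S).map_surjective (sqR'.lift ((yon S).map x) ((yon S).map y) hxy)
      have e₁ : z' ≫ s₁ = x := (yon S).map_injective (by rw [Functor.map_comp, hz', sqR'.lift_fst])
      have e₂ : z' ≫ s₂ = y := (yon S).map_injective (by rw [Functor.map_comp, hz', sqR'.lift_snd])
      have e : z' ≫ ρ = z := (yon S).map_injective (d.sqR.hom_ext
        (by rw [← Functor.map_comp, ← Functor.map_comp, Category.assoc, hρ₁, reassoc_of% e₁, hz₁])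
        (by rw [← Functor.map_comp, ← Functor.map_comp, Category.assoc, hρ₂, reassoc_of% e₂, hz₂]))
      refine ⟨z', e₁, e₂, ?_⟩
      show z'.left ⁻¹ᵁ (ρ.left ⁻¹ᵁ d.O) = ⊤
      rw [← Scheme.Hom.comp_preimage, ← Over.comp_left, e]
      exact hz

include hD hqs in
/-- A condition on points that holds over the limit, stated with opens, holds at a later stage. -/
theorem Dat.compactSpace_pairs {T : Over S} {p q : T ⟶ d.R} (sq : IsPullback p q d.r₂ d.r₁) :
    CompactSpace T.left ∧ QuasiSeparatedSpace T.left := by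
  have := d.affine
  obtain ⟨hc₁, hs₁⟩ := d.compact_R hD hqs
  have sq' := Groth.AlgSpBasic.isPullback_left sq
  have : QuasiCompact p.left := MorphismProperty.of_isPullback (P := @QuasiCompact) sq'.flip inferInstance
  have : QuasiSeparated p.left :=
    MorphismProperty.of_isPullback (P := @QuasiSeparated) sq'.flip inferInstance
  exact ⟨QuasiCompact.compactSpace_of_compactSpace p.left, quasiSeparatedSpace_of_quasiSeparated p.left⟩

include hD hDa hc hqs in
/-- The relation is reflexive at all sufficiently late stages. -/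
theorem Dat.exists_refl : ∃ (i : I) (φ : i ⟶ d.i), ∀ (Z : Over S) (x : Z ⟶ d.B)
    (u : (yon S).obj Z ⟶ D.obj i), u ≫ D.map φ = (yon S).map x ≫ d.b → d.Rel x x := by
  have := d.affine
  obtain ⟨hRc, hRs⟩ := d.compact_R hD hqs
  obtain ⟨δ, hδ⟩ := (yon S).map_surjective (d.sqR.lift (𝟙 _) (𝟙 _) rfl)
  have hδ₁ : δ ≫ d.r₁ = 𝟙 _ := (yon S).map_injective (by
    rw [Functor.map_comp, hδ, d.sqR.lift_fst, CategoryTheory.Functor.map_id])
  have hδ₂ : δ ≫ d.r₂ = 𝟙 _ := (yon S).map_injective (by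
    rw [Functor.map_comp, hδ, d.sqR.lift_snd, CategoryTheory.Functor.map_id])
  obtain ⟨i, φ, h⟩ := exists_stage_opens hDa hc d.b (δ.left ⁻¹ᵁ d.O) ⊤
    (QuasiCompact.isCompact_preimage (f := δ.left) _ d.O.2 d.compact) isCompact_univ fun Z z u hu => by
      obtain ⟨e, he⟩ := (yon S).map_surjective (d.sq.lift ((yon S).map z) u hu.symm)
      have he₁ : e ≫ d.γ = z := (yon S).map_injective (by rw [Functor.map_comp, he, d.sq.lift_fst])
      rw [← Scheme.Hom.comp_preimage, ← Over.comp_left, Scheme.Hom.preimage_top]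
      exact (d.mem Z e e (z ≫ δ) (by rw [Category.assoc, hδ₁, Category.comp_id, he₁])
        (by rw [Category.assoc, hδ₂, Category.comp_id, he₁]) rfl).1 rfl
  refine ⟨i, φ, fun Z x u hu => ⟨x ≫ δ, by rw [Category.assoc, hδ₁, Category.comp_id],
    by rw [Category.assoc, hδ₂, Category.comp_id], ?_⟩⟩
  rw [Over.comp_left, Scheme.Hom.comp_preimage]
  exact (h Z x u hu).trans (Scheme.Hom.preimage_top _)

/-- An open is in the open of pairs when the points agree in the scheme. -/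
theorem Dat.le_preimage_iff {Z : Over S} (x y : Z ⟶ E₀) (z : Z ⟶ d.R) (hx : x ≫ d.γ = z ≫ d.r₁)
    (hy : y ≫ d.γ = z ≫ d.r₂)
    (h : (yon S).map x ≫ (yon S).map a ≫ w = (yon S).map y ≫ (yon S).map a ≫ w) (L : Z.left.Opens) :
    L ≤ z.left ⁻¹ᵁ d.O ↔ resι L ≫ x ≫ a = resι L ≫ y ≫ a := by
  rw [← Category.assoc, ← Category.assoc (resι L), d.mem _ (resι L ≫ x) (resι L ≫ y) (resι L ≫ z)
    (by rw [Category.assoc, hx, Category.assoc]) (by rw [Category.assoc, hy, Category.assoc])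
    (by simp only [Functor.map_comp, Category.assoc, h]), preimage_eq_top_iff]
  constructor
  · intro hL t
    exact hL t.2
  · intro hL t ht
    exact hL ⟨t, ht⟩

include hD hDa hc hqs in
/-- The relation is symmetric at all sufficiently late stages. -/
theorem Dat.exists_symm : ∃ (i : I) (φ : i ⟶ d.i), ∀ (Z : Over S) (x y : Z ⟶ d.B)
    (u : (yon S).obj Z ⟶ D.obj i), u ≫ D.map φ = (yon S).map x ≫ d.b → d.Rel x y → d.Rel y x := by
  have := d.affine
  obtain ⟨hRc, hRs⟩ := d.compact_R hD hqs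
  obtain ⟨σ, hσ⟩ := (yon S).map_surjective (d.sqR.lift ((yon S).map d.r₂) ((yon S).map d.r₁)
    d.sqR.w.symm)
  have hσ₁ : σ ≫ d.r₁ = d.r₂ := (yon S).map_injective (by
    rw [Functor.map_comp, hσ, d.sqR.lift_fst])
  have hσ₂ : σ ≫ d.r₂ = d.r₁ := (yon S).map_injective (by
    rw [Functor.map_comp, hσ, d.sqR.lift_snd])
  obtain ⟨i, φ, h⟩ := exists_stage_opens hDa hc ((yon S).map d.r₁ ≫ d.b) d.O (σ.left ⁻¹ᵁ d.O)
    d.compact (QuasiCompact.isCompact_preimage (f := σ.left) _ d.O.2 d.compact) fun Z z u hu => by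
      obtain ⟨x, hx⟩ := (yon S).map_surjective (d.sq.lift ((yon S).map (z ≫ d.r₁)) u
        (by rw [Functor.map_comp, Category.assoc]; exact hu.symm))
      obtain ⟨y, hy⟩ := (yon S).map_surjective (d.sq.lift ((yon S).map (z ≫ d.r₂)) u
        (by rw [Functor.map_comp, Category.assoc, ← d.sqR.w]; exact hu.symm))
      have hx₁ : x ≫ d.γ = z ≫ d.r₁ := (yon S).map_injective (by rw [Functor.map_comp, hx, d.sq.lift_fst])
      have hy₁ : y ≫ d.γ = z ≫ d.r₂ := (yon S).map_injective (by rw [Functor.map_comp, hy, d.sq.lift_fst])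
      have hxy : (yon S).map x ≫ (yon S).map a ≫ w = (yon S).map y ≫ (yon S).map a ≫ w := by
        rw [hx, hy, d.sq.lift_snd, d.sq.lift_snd]
      have A := d.le_preimage_iff x y z hx₁ hy₁ hxy
      have B := d.le_preimage_iff y x (z ≫ σ) (by rw [Category.assoc, hσ₁, hy₁])
        (by rw [Category.assoc, hσ₂, hx₁]) hxy.symm
      rw [← Scheme.Hom.comp_preimage, ← Over.comp_left]
      exact le_antisymm ((B _).2 ((A _).1 le_rfl).symm) ((A _).2 ((B _).1 le_rfl).symm)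
  refine ⟨i, φ, fun Z x y u hu hr => ?_⟩
  obtain ⟨z, rfl, rfl, hz⟩ := hr
  refine ⟨z ≫ σ, by rw [Category.assoc, hσ₁], by rw [Category.assoc, hσ₂], ?_⟩
  rw [Over.comp_left, Scheme.Hom.comp_preimage, ← h Z z u (by
    rw [hu, Functor.map_comp, Category.assoc]), hz]

include hD hDa hc hqs in
/-- The relation is transitive at all sufficiently late stages. -/
theorem Dat.exists_trans : ∃ (i : I) (φ : i ⟶ d.i), ∀ (Z : Over S) (x y t : Z ⟶ d.B)
    (u : (yon S).obj Z ⟶ D.obj i), u ≫ D.map φ = (yon S).map x ≫ d.b → d.Rel x y → d.Rel y t →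
      d.Rel x t := by
  have := d.affine
  obtain ⟨hRc, hRs⟩ := d.compact_R hD hqs
  obtain ⟨T, p, q, sqT⟩ : ∃ (T : Over S) (p q : T ⟶ d.R), IsPullback p q d.r₂ d.r₁ :=
    ⟨_, _, _, IsPullback.of_hasPullback _ _⟩
  obtain ⟨hTc, hTs⟩ := d.compactSpace_pairs hD hqs sqT
  have hbb : (yon S).map (p ≫ d.r₁) ≫ d.b = (yon S).map (q ≫ d.r₂) ≫ d.b := by
    simp only [Functor.map_comp, Category.assoc]
    rw [d.sqR.w, ← d.sqR.w, ← Category.assoc, ← Category.assoc ((yon S).map q), ← Functor.map_comp,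
      ← Functor.map_comp, ← sqT.w, Functor.map_comp, Functor.map_comp, Category.assoc, Category.assoc,
      d.sqR.w]
  obtain ⟨ψ, hψ⟩ := (yon S).map_surjective (d.sqR.lift ((yon S).map (p ≫ d.r₁))
    ((yon S).map (q ≫ d.r₂)) hbb)
  have hψ₁ : ψ ≫ d.r₁ = p ≫ d.r₁ := (yon S).map_injective (by
    rw [Functor.map_comp, hψ, d.sqR.lift_fst])
  have hψ₂ : ψ ≫ d.r₂ = q ≫ d.r₂ := (yon S).map_injective (by
    rw [Functor.map_comp, hψ, d.sqR.lift_snd])
  let O₁ : T.left.Opens := p.left ⁻¹ᵁ d.O ⊓ q.left ⁻¹ᵁ d.O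
  let O₂ : T.left.Opens := O₁ ⊓ ψ.left ⁻¹ᵁ d.O
  have hp := QuasiCompact.isCompact_preimage (f := p.left) _ d.O.2 d.compact
  have hq := QuasiCompact.isCompact_preimage (f := q.left) _ d.O.2 d.compact
  have hψc := QuasiCompact.isCompact_preimage (f := ψ.left) _ d.O.2 d.compact
  have h₁ : IsCompact (O₁ : Set T.left) :=
    QuasiSeparatedSpace.inter_isCompact _ _ (p.left ⁻¹ᵁ d.O).2 hp (q.left ⁻¹ᵁ d.O).2 hq
  have h₂ : IsCompact (O₂ : Set T.left) :=
    QuasiSeparatedSpace.inter_isCompact _ _ O₁.2 h₁ (ψ.left ⁻¹ᵁ d.O).2 hψc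
  obtain ⟨i, φ, h⟩ := exists_stage_opens hDa hc ((yon S).map (p ≫ d.r₁) ≫ d.b) O₁ O₂ h₁ h₂
    fun Z z u hu => by
      have lift : ∀ (g : T ⟶ d.B), (yon S).map (p ≫ d.r₁) ≫ d.b = (yon S).map g ≫ d.b →
          ∃ x : Z ⟶ E₀, x ≫ d.γ = z ≫ g ∧ (yon S).map x ≫ (yon S).map a ≫ w = u := fun g hg => by
        obtain ⟨x, hx⟩ := (yon S).map_surjective (d.sq.lift ((yon S).map (z ≫ g)) u
          (by rw [Functor.map_comp, Category.assoc, ← hg]; exact hu.symm))
        exact ⟨x, (yon S).map_injective (by rw [Functor.map_comp, hx, d.sq.lift_fst]),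
          by rw [hx, d.sq.lift_snd]⟩
      obtain ⟨x₁, hx₁, hu₁⟩ := lift (p ≫ d.r₁) rfl
      obtain ⟨x₂, hx₂, hu₂⟩ := lift (p ≫ d.r₂) (by
        simp only [Functor.map_comp, Category.assoc, d.sqR.w])
      obtain ⟨x₃, hx₃, hu₃⟩ := lift (q ≫ d.r₂) hbb
      have A := d.le_preimage_iff x₁ x₂ (z ≫ p) (by rw [hx₁, Category.assoc])
        (by rw [hx₂, Category.assoc]) (hu₁.trans hu₂.symm)
      have B := d.le_preimage_iff x₂ x₃ (z ≫ q) (by rw [hx₂, Category.assoc, sqT.w])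
        (by rw [hx₃, Category.assoc]) (hu₂.trans hu₃.symm)
      have C := d.le_preimage_iff x₁ x₃ (z ≫ ψ) (by rw [hx₁, Category.assoc, hψ₁])
        (by rw [hx₃, Category.assoc, hψ₂]) (hu₁.trans hu₃.symm)
      refine (inf_eq_left.2 ?_ :
        z.left ⁻¹ᵁ O₁ ⊓ z.left ⁻¹ᵁ (ψ.left ⁻¹ᵁ d.O) = z.left ⁻¹ᵁ O₁).symm
      show z.left ⁻¹ᵁ O₁ ≤ z.left ⁻¹ᵁ (ψ.left ⁻¹ᵁ d.O)
      rw [← Scheme.Hom.comp_preimage, ← Over.comp_left]
      refine (C _).2 (((A _).1 ?_).trans ((B _).1 ?_))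
      · rw [Over.comp_left, Scheme.Hom.comp_preimage]
        exact z.left.preimage_mono inf_le_left
      · rw [Over.comp_left, Scheme.Hom.comp_preimage]
        exact z.left.preimage_mono inf_le_right
  refine ⟨i, φ, fun Z x y t u hu hxy hyt => ?_⟩
  obtain ⟨z₁, rfl, rfl, hz₁⟩ := hxy
  obtain ⟨z₂, e₂, rfl, hz₂⟩ := hyt
  let z := sqT.lift z₁ z₂ e₂.symm
  have hzp : z ≫ p = z₁ := sqT.lift_fst _ _ _
  have hzq : z ≫ q = z₂ := sqT.lift_snd _ _ _
  refine ⟨z ≫ ψ, by rw [Category.assoc, hψ₁, reassoc_of% hzp],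
    by rw [Category.assoc, hψ₂, reassoc_of% hzq], ?_⟩
  have := h Z z u (by rw [hu, ← Category.assoc, ← Functor.map_comp, reassoc_of% hzp])
  have h₁' : z.left ⁻¹ᵁ O₁ = ⊤ := by
    show z.left ⁻¹ᵁ (p.left ⁻¹ᵁ d.O) ⊓ z.left ⁻¹ᵁ (q.left ⁻¹ᵁ d.O) = ⊤
    rw [← Scheme.Hom.comp_preimage, ← Scheme.Hom.comp_preimage, ← Over.comp_left, ← Over.comp_left,
      hzp, hzq, hz₁, hz₂, inf_top_eq]
  rw [Over.comp_left, Scheme.Hom.comp_preimage]
  refine top_le_iff.1 ?_
  rw [← h₁', this]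
  exact z.left.preimage_mono inf_le_right

include hD hDa hc hqs in
/-- At a late stage the relation is an equivalence relation. -/
theorem Dat.exists_equivalence :
    ∃ d' : Dat c a w, Nonempty (d'.i ⟶ d.i) ∧ ∀ Z : Over S, Equivalence (d'.Rel (Z := Z)) := by
  obtain ⟨i₁, φ₁, h₁⟩ := d.exists_refl hD hDa hc hqs
  obtain ⟨i₂, φ₂, h₂⟩ := d.exists_symm hD hDa hc hqs
  obtain ⟨i₃, φ₃, h₃⟩ := d.exists_trans hD hDa hc hqs
  obtain ⟨i₄, μ₁, μ₂, e₄⟩ := IsCofiltered.cospan φ₁ φ₂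
  obtain ⟨i₅, ν, μ₃, e₅⟩ := IsCofiltered.cospan (μ₁ ≫ φ₁) φ₃
  let φ := (ν ≫ μ₁) ≫ φ₁
  have e₂ : (ν ≫ μ₂) ≫ φ₂ = φ := by simp only [φ, Category.assoc, e₄]
  have e₃ : μ₃ ≫ φ₃ = φ := by rw [← e₅]; simp only [φ, Category.assoc]
  obtain ⟨d', e, q, sq, hγ, hrel⟩ := d.exists_pull hD hDa hc hqs φ
  subst e
  simp only [eqToHom_refl, Category.comp_id] at sq
  have hu : ∀ {i : I} (μ : d'.i ⟶ i) (ψ : i ⟶ d.i), μ ≫ ψ = φ → ∀ {Z : Over S} (x : Z ⟶ d'.B),
      (((yon S).map x ≫ d'.b) ≫ D.map μ) ≫ D.map ψ = (yon S).map (x ≫ q) ≫ d.b := by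
    intro i μ ψ he Z x
    simp only [Category.assoc, ← Functor.map_comp, he]
    rw [sq.w, Functor.map_comp, Category.assoc]
  refine ⟨d', ⟨φ⟩, fun Z => ⟨fun x => ?_, fun {x y} h => ?_, fun {x y t} h h' => ?_⟩⟩
  · exact (hrel x x rfl).2 (h₁ Z _ _ (hu (ν ≫ μ₁) φ₁ rfl x))
  · exact (hrel y x (d'.rel_base h).symm).2
      (h₂ Z _ _ _ (hu (ν ≫ μ₂) φ₂ e₂ x) ((hrel x y (d'.rel_base h)).1 h))
  · exact (hrel x t ((d'.rel_base h).trans (d'.rel_base h'))).2
      (h₃ Z _ _ _ _ (hu μ₃ φ₃ e₃ x) ((hrel x y (d'.rel_base h)).1 h) ((hrel y t (d'.rel_base h')).1 h'))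

end Groth.AlgSp2.Absolute
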