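import Groth.Agent.AlgSp2.Absolute.EtaleData
import Groth.Agent.AlgSpBasic.Compact

/-!
# Schemes etale over a limit of spaces have data at a stage
-/

set_option autoImplicit false
set_option linter.unusedSectionVars false
set_option backward.isDefEq.respectTransparency false
set_option backward.isDefEq.respectTransparency.types false

universe u

open CategoryTheory CategoryTheory.Limits AlgebraicGeometry Opposite AlgSp
open Groth.AlgSpBasic Groth.SpLimit Groth.AlgSp3

noncomputable section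

namespace Groth.AlgSp2.Absolute

variable {S : Scheme.{u}} [QuasiSeparatedSpace S] {I : Type u} [SmallCategory I] [IsCofiltered I]
  {D : I ⥤ Sp S} {c : Cone D} (hD : ∀ i, IsAlgSpace (D.obj i))
  (hDa : ∀ (i j : I) (φ : i ⟶ j), IsAffineMor (D.map φ)) (hc : IsLimit c)
  (hqc : ∀ i, IsQuasiCompactSp (D.obj i)) (hqs : ∀ i, IsQuasiSeparatedSp (D.obj i))

include hD hDa hc hqc hqs in
/-- A quasi-compact, quasi-separated scheme etale over the limit has an affine chart with data. -/
theorem exists_dat {W : Over S} [CompactSpace W.left] [QuasiSeparatedSpace W.left]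
    (w : (yon S).obj W ⟶ c.pt) (hw : RepWith @Etale w) :
    ∃ (E₀ : Over S) (a : E₀ ⟶ W), IsAffine E₀.left ∧ Etale a.left ∧ Surjective a.left ∧
      Nonempty (Dat c a w) := by
  have hpt := isAlgSpace_pt D hDa hc hD
  have hqsPt := isQuasiSeparatedSp_pt hD hDa hc hqs
  obtain ⟨i₁⟩ := IsCofiltered.nonempty (C := I)
  obtain ⟨T, g, hT, hge, hgs⟩ := exists_affine_chart (hD i₁) (hqc i₁)
  obtain ⟨P⟩ := nonempty_pullSys D hDa hc i₁ g
  let A := P.affSys
  have : IsAffine P.L.pt.left := P.affSys.affPt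
  obtain ⟨M, m₁, m₂, sqM⟩ := exists_pullback_of_diag hpt.diag w P.top
  have : CompactSpace M.left := compactSpace_pullback_of_qs hqsPt sqM
  have htope : RepWith @Etale P.top := repWith_of_isPullback P.sqTop.flip hge
  have htops : RepWith @Surjective P.top := repWith_of_isPullback P.sqTop.flip hgs
  have hm₁e : Etale m₁.left :=
    (repWith_yon_map_iff _ m₁).1 (repWith_of_isPullback sqM.flip htope)
  have hm₁s : Surjective m₁.left :=
    (repWith_yon_map_iff _ m₁).1 (repWith_of_isPullback sqM.flip htops)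
  have hm₂e : Etale m₂.left := (repWith_yon_map_iff _ m₂).1 (repWith_of_isPullback sqM hw)
  obtain ⟨E₀, e₀, hE₀, he₀, hs₀⟩ := exists_affine_chart (IsAlgSpace.yon_obj M)
    ((isQuasiCompactSp_yon_iff M).2 ‹_›)
  obtain ⟨e, rfl⟩ := (yon S).map_surjective e₀
  have : Etale e.left := (repWith_yon_map_iff _ e).1 he₀
  have : Surjective e.left := (repWith_yon_map_iff _ e).1 hs₀
  have := hm₁s
  have := hm₁e
  have := hm₂e
  have hae : Etale (e ≫ m₁).left := by rw [Over.comp_left]; infer_instance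
  have has : Surjective (e ≫ m₁).left := by rw [Over.comp_left]; infer_instance
  obtain ⟨k, B, f₀, tp, sqB, hB, hf₀⟩ := exists_etale_stage A (e ≫ m₂)
    (by rw [Over.comp_left]; infer_instance)
  let b : (yon S).obj B ⟶ D.obj k.left := (yon S).map f₀ ≫ P.p k
  have hb : RepWith @Etale b :=
    repWith_comp ((repWith_yon_map_iff _ f₀).2 hf₀) (repWith_of_isPullback (P.sq k).flip hge)
  have sqb : IsPullback ((yon S).map tp) ((yon S).map (e ≫ m₁) ≫ w) b (c.π.app k.left) := by
    have : (yon S).map (e ≫ m₁) ≫ w = (yon S).map (e ≫ m₂) ≫ P.top := by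
      simp only [Functor.map_comp, Category.assoc, sqM.w]
    rw [this]
    exact (sqB.map (yon S)).paste_vert (P.sq_π k).flip
  -- pairs
  obtain ⟨R, r₁, r₂, sqR⟩ := exists_pullback_of_diag (hD k.left).diag b b
  have : CompactSpace R.left := compactSpace_pullback_of_qs (hqs k.left) sqR
  have : QuasiSeparatedSpace R.left := quasiSeparatedSpace_of_diag (hD k.left) sqR
  obtain ⟨P₂⟩ := nonempty_pullSys D hDa hc k.left ((yon S).map r₁ ≫ b)
  obtain ⟨x₁, hx₁⟩ := (yon S).map_surjective (sqb.lift ((yon S).map (P₂.bot ≫ r₁)) P₂.top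
    (by rw [Functor.map_comp, Category.assoc]; exact P₂.sqTop.w.symm))
  obtain ⟨x₂, hx₂⟩ := (yon S).map_surjective (sqb.lift ((yon S).map (P₂.bot ≫ r₂)) P₂.top
    (by rw [Functor.map_comp, Category.assoc, ← sqR.w]; exact P₂.sqTop.w.symm))
  have hx₁γ : x₁ ≫ tp = P₂.bot ≫ r₁ := (yon S).map_injective (by
    rw [Functor.map_comp, hx₁, sqb.lift_fst])
  have hx₂γ : x₂ ≫ tp = P₂.bot ≫ r₂ := (yon S).map_injective (by
    rw [Functor.map_comp, hx₂, sqb.lift_fst])
  have hx₁u : (yon S).map x₁ ≫ (yon S).map (e ≫ m₁) ≫ w = P₂.top := by rw [hx₁, sqb.lift_snd]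
  have hx₂u : (yon S).map x₂ ≫ (yon S).map (e ≫ m₁) ≫ w = P₂.top := by rw [hx₂, sqb.lift_snd]
  have hx₁e : Etale x₁.left := by
    have t : IsPullback ((yon S).map P₂.bot) ((yon S).map x₁) ((yon S).map r₁) ((yon S).map tp) :=
      IsPullback.of_bot (by rw [hx₁u]; exact P₂.sqTop.flip)
        (by rw [← Functor.map_comp, ← Functor.map_comp, hx₁γ]) sqb
    exact MorphismProperty.of_isPullback (P := @Etale) (isPullback_left (isPullback_of_yon t))
      ((repWith_yon_map_iff _ r₁).1 (repWith_of_isPullback sqR.flip hb))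
  obtain ⟨EW, e₁, e₂, sqE⟩ : ∃ (EW : Over S) (e₁ e₂ : EW ⟶ E₀),
      IsPullback e₁ e₂ (e ≫ m₁) (e ≫ m₁) := ⟨_, _, _, IsPullback.of_hasPullback _ _⟩
  have hu : (yon S).map e₁ ≫ (yon S).map (e ≫ m₁) ≫ w = (yon S).map e₂ ≫ (yon S).map (e ≫ m₁) ≫ w := by
    rw [← Category.assoc, ← Category.assoc ((yon S).map e₂), ← Functor.map_comp, ← Functor.map_comp,
      sqE.w]
  obtain ⟨z, hz⟩ := (yon S).map_surjective (sqR.lift ((yon S).map (e₁ ≫ tp))
    ((yon S).map (e₂ ≫ tp)) (by
      rw [Functor.map_comp _ e₁, Functor.map_comp _ e₂, Category.assoc, Category.assoc, sqb.w]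
      simp only [Category.assoc]
      rw [reassoc_of% hu]))
  have hz₁ : z ≫ r₁ = e₁ ≫ tp := (yon S).map_injective (by rw [Functor.map_comp, hz, sqR.lift_fst])
  have hz₂ : z ≫ r₂ = e₂ ≫ tp := (yon S).map_injective (by rw [Functor.map_comp, hz, sqR.lift_snd])
  obtain ⟨ρ, hρ⟩ := (yon S).map_surjective (P₂.sqTop.lift
    ((yon S).map e₁ ≫ (yon S).map (e ≫ m₁) ≫ w) ((yon S).map z) (by
      rw [← Category.assoc ((yon S).map z), ← Functor.map_comp, hz₁, Functor.map_comp _ e₁ tp,
        Category.assoc ((yon S).map e₁) ((yon S).map tp), sqb.w]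
      simp only [Category.assoc]))
  have hρb : ρ ≫ P₂.bot = z := (yon S).map_injective (by
    rw [Functor.map_comp, hρ, P₂.sqTop.lift_snd])
  have hρt : (yon S).map ρ ≫ P₂.top = (yon S).map e₁ ≫ (yon S).map (e ≫ m₁) ≫ w := by
    rw [hρ, P₂.sqTop.lift_fst]
  have hρ₁ : ρ ≫ x₁ = e₁ := (yon S).map_injective (sqb.hom_ext
    (by rw [← Functor.map_comp, ← Functor.map_comp, Category.assoc, hx₁γ, reassoc_of% hρb, hz₁])
    (by rw [Functor.map_comp, Category.assoc, hx₁u, hρt]))
  have hρ₂ : ρ ≫ x₂ = e₂ := (yon S).map_injective (sqb.hom_ext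
    (by rw [← Functor.map_comp, ← Functor.map_comp, Category.assoc, hx₂γ, reassoc_of% hρb, hz₂])
    (by rw [Functor.map_comp, Category.assoc, hx₂u, hρt, hu]))
  have : Mono ρ := ⟨fun p q h => sqE.hom_ext (by rw [← hρ₁, reassoc_of% h]) (by rw [← hρ₂, reassoc_of% h])⟩
  have : Mono ρ.left := inferInstanceAs (Mono ((Over.forget S).map ρ))
  have : Etale ρ.left := by
    have : Etale (ρ.left ≫ x₁.left) := by
      rw [← Over.comp_left, hρ₁]
      exact MorphismProperty.of_isPullback (P := @Etale) (isPullback_left sqE).flip hae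
    exact Etale.of_comp ρ.left x₁.left
  have : IsOpenImmersion ρ.left := IsOpenImmersion.of_flat_of_mono ρ.left
  have : CompactSpace E₀.left := inferInstance
  have : QuasiCompact e₁.left :=
    MorphismProperty.of_isPullback (P := @QuasiCompact) (isPullback_left sqE).flip inferInstance
  have : CompactSpace EW.left := QuasiCompact.compactSpace_of_compactSpace e₁.left
  have : ∀ {m n : Over k.left} (α : m ⟶ n), IsAffineHom ((P₂.E ⋙ Over.forget S).map α) :=
    fun α => P₂.aff_map α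
  have : ∀ m, CompactSpace ((P₂.E ⋙ Over.forget S).obj m) := fun m =>
    have := P₂.aff m
    QuasiCompact.compactSpace_of_compactSpace (P₂.q m).left
  have : ∀ m, QuasiSeparatedSpace ((P₂.E ⋙ Over.forget S).obj m) := fun m =>
    have := P₂.aff m
    quasiSeparatedSpace_of_quasiSeparated (P₂.q m).left
  obtain ⟨m, V, hV, hVU⟩ := exists_preimage_eq (P₂.E ⋙ Over.forget S) _ P₂.isLimit
    ρ.left.opensRange (by rw [Scheme.Hom.coe_opensRange]; exact isCompact_range ρ.left.continuous)
  replace hVU : (P₂.L.π.app m).left ⁻¹ᵁ V = ρ.left.opensRange := hVU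
  -- the data at the stage of the open
  obtain ⟨P₁⟩ := nonempty_pullSys D hDa hc k.left b
  let k' : Over k.left := Over.mk m.hom
  have : IsAffineHom (P₁.q k').left := P₁.aff k'
  have : IsAffine (P₁.E.obj k').left := isAffine_of_isAffineHom (P₁.q k').left
  obtain ⟨γ', hγ'⟩ := (yon S).map_surjective ((P₁.sq k').lift
    (((yon S).map (e ≫ m₁) ≫ w) ≫ c.π.app m.left)
    ((yon S).map tp) (by rw [Category.assoc, c.w]; exact sqb.w.symm))
  have h₁ : γ' ≫ P₁.q k' = tp := (yon S).map_injective (by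
    rw [Functor.map_comp, hγ', (P₁.sq k').lift_snd])
  have h₂ : (yon S).map γ' ≫ P₁.p k' = ((yon S).map (e ≫ m₁) ≫ w) ≫ c.π.app m.left := by
    rw [hγ', (P₁.sq k').lift_fst]
  obtain ⟨R', s₁, s₂, sqR'⟩ := exists_pullback_of_diag (hD m.left).diag (P₁.p k') (P₁.p k')
  obtain ⟨θ, hθ⟩ := (yon S).map_surjective (sqR.lift ((yon S).map (s₁ ≫ P₁.q k'))
    ((yon S).map (s₂ ≫ P₁.q k')) (by
      rw [Functor.map_comp, Functor.map_comp, Category.assoc, Category.assoc, ← (P₁.sq k').w,
        reassoc_of% sqR'.w]))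
  have hθ₁ : θ ≫ r₁ = s₁ ≫ P₁.q k' := (yon S).map_injective (by
    rw [Functor.map_comp, hθ, sqR.lift_fst])
  have hθ₂ : θ ≫ r₂ = s₂ ≫ P₁.q k' := (yon S).map_injective (by
    rw [Functor.map_comp, hθ, sqR.lift_snd])
  obtain ⟨θ', hθq, hθp⟩ := exists_lift_pullSys P₂ m θ ((yon S).map s₁ ≫ P₁.p k') (by
    have := (P₁.sq k').w
    rw [Category.assoc, show D.map m.hom = D.map k'.hom from rfl, this, ← Category.assoc,
      ← Category.assoc ((yon S).map θ), ← Functor.map_comp, ← Functor.map_comp, hθ₁])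
  have : CompactSpace R'.left := compactSpace_pullback_of_qs (hqs m.left) sqR'
  have : QuasiSeparatedSpace (P₂.E.obj m).left :=
    inferInstanceAs (QuasiSeparatedSpace ((P₂.E ⋙ Over.forget S).obj m))
  refine ⟨E₀, e ≫ m₁, hE₀, hae, has, ⟨{
    i := m.left, b := P₁.p k', γ := γ', affine := inferInstance
    etale := repWith_of_isPullback (P₁.sq k').flip hb
    r₁ := s₁, r₂ := s₂, sqR := sqR', O := θ'.left ⁻¹ᵁ V
    compact := QuasiCompact.isCompact_preimage (f := θ'.left) _ V.2 hV
    sq := IsPullback.of_right (by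
      rw [← Functor.map_comp, h₁]; exact (c.w k'.hom).symm ▸ sqb) h₂ (P₁.sq k').flip
    mem := fun Z x y z hx hy h => ?_ }⟩⟩
  let u := (yon S).map x ≫ (yon S).map (e ≫ m₁) ≫ w
  obtain ⟨l, hl⟩ := (yon S).map_surjective (P₂.sqTop.lift u ((yon S).map (z ≫ θ)) (by
    simp only [u, Category.assoc, ← sqb.w]
    rw [← Category.assoc, ← Category.assoc ((yon S).map (z ≫ θ)), ← Functor.map_comp,
      ← Functor.map_comp, Category.assoc, hθ₁, ← reassoc_of% hx, h₁]))
  have hlb : l ≫ P₂.bot = z ≫ θ := (yon S).map_injective (by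
    rw [Functor.map_comp, hl, P₂.sqTop.lift_snd])
  have hlt : (yon S).map l ≫ P₂.top = u := by rw [hl, P₂.sqTop.lift_fst]
  have hl₁ : l ≫ x₁ = x := (yon S).map_injective (sqb.hom_ext
    (by rw [← Functor.map_comp, ← Functor.map_comp, Category.assoc, hx₁γ, reassoc_of% hlb, hθ₁,
      ← reassoc_of% hx, h₁])
    (by rw [Functor.map_comp, Category.assoc, hx₁u, hlt]))
  have hl₂ : l ≫ x₂ = y := (yon S).map_injective (sqb.hom_ext
    (by rw [← Functor.map_comp, ← Functor.map_comp, Category.assoc, hx₂γ, reassoc_of% hlb, hθ₂,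
      ← reassoc_of% hy, h₁])
    (by rw [Functor.map_comp, Category.assoc, hx₂u, hlt, ← h]))
  have hlπ : l ≫ P₂.L.π.app m = z ≫ θ' := (yon S).map_injective ((P₂.sq m).hom_ext
    (by
      rw [Functor.map_comp, Category.assoc, ← P₂.top_π, ← Category.assoc, hlt, Functor.map_comp,
        Category.assoc ((yon S).map z), hθp, ← Category.assoc ((yon S).map z), ← Functor.map_comp, ← hx,
        Functor.map_comp _ x γ', Category.assoc ((yon S).map x) ((yon S).map γ'), h₂]
      simp only [u, Category.assoc])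
    (by
      rw [← Functor.map_comp, ← Functor.map_comp, Category.assoc, P₂.π_q, hlb, Category.assoc, hθq]))
  show _ ↔ z.left ⁻¹ᵁ (θ'.left ⁻¹ᵁ V) = ⊤
  rw [← Scheme.Hom.comp_preimage, ← Over.comp_left, ← hlπ, Over.comp_left, Scheme.Hom.comp_preimage,
    hVU, preimage_eq_top_iff]
  constructor
  · intro hxy t
    let n := sqE.lift x y hxy
    have : n ≫ ρ = l := by
      refine (yon S).map_injective (P₂.sqTop.hom_ext ?_ ?_)
      · rw [Functor.map_comp, Category.assoc, hρt, ← Category.assoc, ← Functor.map_comp,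
          sqE.lift_fst, hlt]
      · refine sqR.hom_ext ?_ ?_ <;> simp only [← Functor.map_comp, Category.assoc]
        · rw [← hx₁γ, reassoc_of% hρ₁, reassoc_of% hl₁, ← Category.assoc, sqE.lift_fst]
        · rw [← hx₂γ, reassoc_of% hρ₂, reassoc_of% hl₂, ← Category.assoc, sqE.lift_snd]
    exact ⟨n.left t, by rw [← Scheme.Hom.comp_apply, ← Over.comp_left, this]⟩
  · intro hr
    let n : Z ⟶ EW := Over.homMk (IsOpenImmersion.lift ρ.left l.left
      (by rintro _ ⟨t, rfl⟩; exact hr t)) (by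
        rw [← Over.w ρ, ← Category.assoc, IsOpenImmersion.lift_fac, Over.w l])
    have hn : n ≫ ρ = l := Over.OverMorphism.ext (IsOpenImmersion.lift_fac _ _ _)
    rw [← hl₁, ← hl₂, ← hn, Category.assoc n ρ x₁, Category.assoc n ρ x₂, hρ₁, hρ₂, Category.assoc,
      Category.assoc, sqE.w]

end Groth.AlgSp2.Absolute
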