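import Groth.Agent.AlgSp2.Absolute.CoverSquare
import Groth.Agent.AlgSp2.InfGlue
import Groth.Agent.AlgSp2.Locality
import Groth.Agent.AlgSp3.NormStable
import Groth.Agent.AlgSpBasic.Quotient
import Groth.Agent.AlgSpBasic.Glue
import Groth.Agent.AlgSpBasic.SepLQF

/-!
# Gluing a scheme with a space along an etale separated map on an open subscheme

Given an open subscheme `A'` of a scheme `A` and `u : h_{A'} ⟶ U` etale, surjective and separated,
two points of `A` are identified when locally they are equal or lie in `A'` with the same image in `U`.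
-/

set_option autoImplicit false
set_option linter.unusedSectionVars false
set_option backward.isDefEq.respectTransparency.types false
universe u

open CategoryTheory CategoryTheory.Limits AlgebraicGeometry TopologicalSpace Opposite AlgSp

namespace Groth.AlgSp2.Absolute

open Groth.AlgSpBasic Groth.AlgSp2 Groth.AlgSp3

noncomputable section

variable {S : Scheme.{u}} {A A' : Over S} {U : Sp S} {ι : A' ⟶ A} {u : (yon S).obj A' ⟶ U}

/-- Locally equal, or locally in the open part with the same image. -/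
def LocalRel (ι : A' ⟶ A) (u : (yon S).obj A' ⟶ U) {Z : Over S} (x y : Z ⟶ A) : Prop :=
  ∀ z : ↥Z.left, ∃ L : Z.left.Opens, z ∈ L ∧ (resι L ≫ x = resι L ≫ y ∨
    ∃ x' y' : resObj L ⟶ A', x' ≫ ι = resι L ≫ x ∧ y' ≫ ι = resι L ≫ y ∧
      (yon S).map x' ≫ u = (yon S).map y' ≫ u)

theorem LocalRel.of_eq {Z : Over S} {x y : Z ⟶ A} (h : x = y) : LocalRel ι u x y :=
  fun _ => ⟨⊤, trivial, Or.inl (by rw [h])⟩

theorem LocalRel.symm {Z : Over S} {x y : Z ⟶ A} (h : LocalRel ι u x y) : LocalRel ι u y x :=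
  fun z => by
  obtain ⟨L, hz, e | ⟨x', y', hx, hy, e⟩⟩ := h z
  · exact ⟨L, hz, Or.inl e.symm⟩
  · exact ⟨L, hz, Or.inr ⟨y', x', hy, hx, e.symm⟩⟩

theorem LocalRel.trans [IsOpenImmersion ι.left] {Z : Over S} {x y w : Z ⟶ A}
    (h : LocalRel ι u x y) (h' : LocalRel ι u y w) : LocalRel ι u x w := fun z => by
  obtain ⟨L₁, hz₁, h₁⟩ := h z
  obtain ⟨L₂, hz₂, h₂⟩ := h' z
  obtain ⟨a, ha, -⟩ := exists_resMap (inf_le_left : L₁ ⊓ L₂ ≤ L₁)
  obtain ⟨b, hb, -⟩ := exists_resMap (inf_le_right : L₁ ⊓ L₂ ≤ L₂)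
  have : Mono ι := (Over.forget S).mono_of_mono_map (inferInstanceAs (Mono ι.left))
  refine ⟨L₁ ⊓ L₂, ⟨hz₁, hz₂⟩, ?_⟩
  rcases h₁ with e₁ | ⟨x', y', hx, hy, e₁⟩ <;> rcases h₂ with e₂ | ⟨y'', w', hy', hw, e₂⟩
  · left
    have e₁' := congrArg (a ≫ ·) e₁
    have e₂' := congrArg (b ≫ ·) e₂
    simp only [← Category.assoc, ha, hb] at e₁' e₂'
    exact e₁'.trans e₂'
  · right
    refine ⟨b ≫ y'', b ≫ w', ?_, ?_, ?_⟩
    · rw [Category.assoc, hy', ← Category.assoc, hb, ← ha, Category.assoc, Category.assoc, e₁]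
    · rw [Category.assoc, hw, ← Category.assoc, hb]
    · rw [Functor.map_comp, Functor.map_comp, Category.assoc, Category.assoc, e₂]
  · right
    refine ⟨a ≫ x', a ≫ y', ?_, ?_, ?_⟩
    · rw [Category.assoc, hx, ← Category.assoc, ha]
    · rw [Category.assoc, hy, ← Category.assoc, ha, ← hb, Category.assoc, Category.assoc, e₂]
    · rw [Functor.map_comp, Functor.map_comp, Category.assoc, Category.assoc, e₁]
  · right
    have e : a ≫ y' = b ≫ y'' := (cancel_mono ι).1 (by
      rw [Category.assoc, hy, ← Category.assoc, ha, Category.assoc, hy', ← Category.assoc, hb])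
    refine ⟨a ≫ x', b ≫ w', ?_, ?_, ?_⟩
    · rw [Category.assoc, hx, ← Category.assoc, ha]
    · rw [Category.assoc, hw, ← Category.assoc, hb]
    · rw [Functor.map_comp, Functor.map_comp, Category.assoc, Category.assoc, e₁, ← e₂,
        ← Functor.map_comp_assoc, ← Functor.map_comp_assoc, e]

theorem exists_resLift_of_mem {B Z : Over S} (i : B ⟶ A) [IsOpenImmersion i.left] (x : Z ⟶ A) :
    ∃ b : resObj (x.left ⁻¹ᵁ i.left.opensRange) ⟶ B,
      b ≫ i = resι (x.left ⁻¹ᵁ i.left.opensRange) ≫ x := by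
  have hr : Set.range ((x.left ⁻¹ᵁ i.left.opensRange).ι ≫ x.left) ⊆ Set.range i.left := by
    rintro _ ⟨p, rfl⟩
    exact p.2
  refine ⟨Over.homMk (IsOpenImmersion.lift i.left _ hr) ?_,
    Over.OverMorphism.ext (IsOpenImmersion.lift_fac _ _ hr)⟩
  show _ ≫ B.hom = (x.left ⁻¹ᵁ i.left.opensRange).ι ≫ Z.hom
  rw [← Over.w i, IsOpenImmersion.lift_fac_assoc, Category.assoc, Over.w x]

theorem of_coprod_pieces {P : MorphismProperty Scheme.{u}} [IsZariskiLocalAtSource P]
    {X Y Z : Scheme.{u}} (f : X ⨿ Y ⟶ Z) (hl : P (coprod.inl ≫ f)) (hr : P (coprod.inr ≫ f)) :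
    P f := by
  refine (IsZariskiLocalAtSource.iff_of_openCover (coprodOpenCover.{u, 0} X Y)).2 fun i => ?_
  rcases i with _ | _
  · exact hl
  · exact hr

variable [IsOpenImmersion ι.left]

/-- The relation is given by the points of a scheme with two etale maps. -/
theorem exists_rel (hU : IsAlgSpace U) (hue : RepWith @Etale u) (hus : RepWith @IsSeparated u) :
    ∃ (R : Over S) (t s : R ⟶ A), IsEqvRel s t ∧ Etale t.left ∧ Etale s.left ∧
      (∀ {Z : Over S} (x y : Z ⟶ A),
        (∃ r : Z ⟶ R, r ≫ t = x ∧ r ≫ s = y) ↔ LocalRel ι u x y) ∧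
      (RepWith @QuasiCompact u → CompactSpace ↥A.left → CompactSpace ↥A'.left →
        CompactSpace ↥R.left) := by
  have : Mono ι := (Over.forget S).mono_of_mono_map (inferInstanceAs (Mono ι.left))
  obtain ⟨R₀, p₁, p₂, sq⟩ := exists_pullback_of_diag hU.diag u u
  have hp₁ : Etale p₁.left := repWith_fst_of_isPullback sq.flip hue
  have hp₂ : Etale p₂.left := repWith_fst_of_isPullback sq hue
  have hp₁s : IsSeparated p₁.left := repWith_fst_of_isPullback sq.flip hus
  obtain ⟨e, he⟩ := (yon S).map_surjective (sq.lift (𝟙 _) (𝟙 _) rfl)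
  have he₁ : e ≫ p₁ = 𝟙 A' := (yon S).map_injective (by
    rw [Functor.map_comp, he, sq.lift_fst, CategoryTheory.Functor.map_id])
  have he₂ : e ≫ p₂ = 𝟙 A' := (yon S).map_injective (by
    rw [Functor.map_comp, he, sq.lift_snd, CategoryTheory.Functor.map_id])
  have he₁' : e.left ≫ p₁.left = 𝟙 _ := by rw [← Over.comp_left, he₁]; rfl
  have : Etale (e.left ≫ p₁.left) := by rw [he₁']; infer_instance
  have : Etale e.left := Etale.of_comp e.left p₁.left
  have : IsClosedImmersion (e.left ≫ p₁.left) := by rw [he₁']; infer_instance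
  have : IsClosedImmersion e.left := IsClosedImmersion.of_comp e.left p₁.left
  have : IsOpenImmersion e.left := IsOpenImmersion.of_flat_of_mono e.left
  let C : R₀.left.Opens :=
    ⟨(Set.range e.left)ᶜ, e.left.isClosedEmbedding.isClosed_range.isOpen_compl⟩
  let R : Over S := Over.mk (coprod.desc A.hom (C.ι ≫ R₀.hom))
  let inl : A ⟶ R := Over.homMk coprod.inl (coprod.inl_desc _ _)
  let inr : resObj C ⟶ R := Over.homMk coprod.inr (coprod.inr_desc _ _)
  let tl : R.left ⟶ A.left := coprod.desc (𝟙 A.left) (C.ι ≫ p₁.left ≫ ι.left)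
  let sl : R.left ⟶ A.left := coprod.desc (𝟙 A.left) (C.ι ≫ p₂.left ≫ ι.left)
  let t : R ⟶ A := Over.homMk tl (by
    refine coprod.hom_ext ?_ ?_
    · simp [tl, R]
    · simp [tl, R, Over.w p₁, Over.w ι])
  let s : R ⟶ A := Over.homMk sl (by
    refine coprod.hom_ext ?_ ?_
    · simp [sl, R]
    · simp [sl, R, Over.w p₂, Over.w ι])
  have hlt : inl ≫ t = 𝟙 A := Over.OverMorphism.ext (coprod.inl_desc _ _)
  have hls : inl ≫ s = 𝟙 A := Over.OverMorphism.ext (coprod.inl_desc _ _)
  have hrt : inr ≫ t = resι C ≫ p₁ ≫ ι := Over.OverMorphism.ext (coprod.inr_desc _ _)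
  have hrs : inr ≫ s = resι C ≫ p₂ ≫ ι := Over.OverMorphism.ext (coprod.inr_desc _ _)
  have : IsOpenImmersion inl.left :=
    inferInstanceAs (IsOpenImmersion (coprod.inl : A.left ⟶ A.left ⨿ (C : Scheme.{u})))
  have : IsOpenImmersion inr.left :=
    inferInstanceAs (IsOpenImmersion (coprod.inr : (C : Scheme.{u}) ⟶ A.left ⨿ (C : Scheme.{u})))
  -- near each point a map into `R` lands in one of the two pieces
  have loc : ∀ {Z : Over S} (r : Z ⟶ R) (z : ↥Z.left),
      (∃ L : Z.left.Opens, z ∈ L ∧ ∃ a : resObj L ⟶ A, a ≫ inl = resι L ≫ r) ∨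
      (∃ L : Z.left.Opens, z ∈ L ∧ ∃ b : resObj L ⟶ resObj C, b ≫ inr = resι L ≫ r) := by
    intro Z r z
    obtain ⟨p | p, hp⟩ := (coprodMk A.left (C : Scheme.{u})).surjective (r.left z)
    · rw [coprodMk_inl] at hp
      exact Or.inl ⟨r.left ⁻¹ᵁ inl.left.opensRange, ⟨p, hp⟩, exists_resLift_of_mem inl r⟩
    · rw [coprodMk_inr] at hp
      exact Or.inr ⟨r.left ⁻¹ᵁ inr.left.opensRange, ⟨p, hp⟩, exists_resLift_of_mem inr r⟩
  -- the two pieces give different pairs
  have disj : ∀ {Z : Over S} (a : Z ⟶ A) (b : Z ⟶ resObj C), b ≫ resι C ≫ p₁ ≫ ι = a →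
      b ≫ resι C ≫ p₂ ≫ ι = a → IsEmpty ↥Z.left := by
    intro Z a b h₁ h₂
    refine ⟨fun z => ?_⟩
    have e' : b ≫ resι C ≫ p₁ = b ≫ resι C ≫ p₂ := (cancel_mono ι).1 (by
      simp only [Category.assoc, h₁, h₂])
    have e'' : b ≫ resι C = (b ≫ resι C ≫ p₁) ≫ e := (yon S).map_injective (sq.hom_ext
      (by rw [← Functor.map_comp, ← Functor.map_comp, Category.assoc, Category.assoc, he₁,
        Category.comp_id])
      (by rw [← Functor.map_comp, ← Functor.map_comp, Category.assoc, Category.assoc, he₂,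
        Category.comp_id, e']))
    have h₃ : (b ≫ resι C).left z ∈ Set.range e.left := by
      rw [e'', Over.comp_left, Scheme.Hom.comp_apply]
      exact ⟨_, rfl⟩
    exact (b.left z).2 h₃
  have inj : ∀ (Z : Over S) (r r' : Z ⟶ R), r ≫ t = r' ≫ t → r ≫ s = r' ≫ s → r = r' := by
    intro Z r r' h₁ h₂
    refine (yon S).map_injective (hom_ext_res fun z => ?_)
    rcases loc r z with ⟨L₁, hz₁, a, ha⟩ | ⟨L₁, hz₁, a, ha⟩ <;>
      rcases loc r' z with ⟨L₂, hz₂, b, hb⟩ | ⟨L₂, hz₂, b, hb⟩ <;>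
      obtain ⟨m, hm, -⟩ := exists_resMap (inf_le_left : L₁ ⊓ L₂ ≤ L₁) <;>
      obtain ⟨m', hm', -⟩ := exists_resMap (inf_le_right : L₁ ⊓ L₂ ≤ L₂) <;>
      refine ⟨L₁ ⊓ L₂, ⟨hz₁, hz₂⟩, ?_⟩ <;>
      have et := congrArg (resι (L₁ ⊓ L₂) ≫ ·) h₁ <;>
      have es := congrArg (resι (L₁ ⊓ L₂) ≫ ·) h₂ <;>
      rw [← Functor.map_comp, ← Functor.map_comp] <;>
      congr 1 <;>
      have er : resι (L₁ ⊓ L₂) ≫ r = m ≫ resι L₁ ≫ r := by rw [← Category.assoc, hm]
    all_goals
      have er' : resι (L₁ ⊓ L₂) ≫ r' = m' ≫ resι L₂ ≫ r' := by rw [← Category.assoc, hm']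
      simp only [← Category.assoc (resι (L₁ ⊓ L₂))] at et es
      rw [er, er', ← ha, ← hb] at et es ⊢
      simp only [Category.assoc, hlt, hls, hrt, hrs, Category.comp_id] at et es
    · rw [reassoc_of% et]
    · have := disj (m ≫ a) (m' ≫ b) (by simpa [Category.assoc] using et.symm)
        (by simpa [Category.assoc] using es.symm)
      exact (this.false ⟨z, hz₁, hz₂⟩).elim
    · have := disj (m' ≫ b) (m ≫ a) (by simpa [Category.assoc] using et)
        (by simpa [Category.assoc] using es)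
      exact (this.false ⟨z, hz₁, hz₂⟩).elim
    · have e₀ : m ≫ a ≫ resι C = m' ≫ b ≫ resι C := (yon S).map_injective (sq.hom_ext
        (by
          rw [← Functor.map_comp, ← Functor.map_comp]
          congr 1
          exact (cancel_mono ι).1 (by simpa [Category.assoc] using et))
        (by
          rw [← Functor.map_comp, ← Functor.map_comp]
          congr 1
          exact (cancel_mono ι).1 (by simpa [Category.assoc] using es)))
      have : Mono (resι C) := (Over.forget S).mono_of_mono_map (inferInstanceAs (Mono C.ι))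
      rw [← Category.assoc, ← Category.assoc]
      congr 1
      exact (cancel_mono (resι C)).1 (by simpa [Category.assoc] using e₀)
  have hrel : ∀ {Z : Over S} (x y : Z ⟶ A),
      (∃ r : Z ⟶ R, r ≫ t = x ∧ r ≫ s = y) ↔ LocalRel ι u x y := by
    intro Z x y
    constructor
    · rintro ⟨r, rfl, rfl⟩ z
      rcases loc r z with ⟨L, hz, a, ha⟩ | ⟨L, hz, a, ha⟩
      · refine ⟨L, hz, Or.inl ?_⟩
        rw [← reassoc_of% ha, hlt, ← reassoc_of% ha, hls]
      · refine ⟨L, hz, Or.inr ⟨a ≫ resι C ≫ p₁, a ≫ resι C ≫ p₂, ?_, ?_, ?_⟩⟩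
        · rw [← reassoc_of% ha, hrt]; simp only [Category.assoc]
        · rw [← reassoc_of% ha, hrs]; simp only [Category.assoc]
        · simp only [Functor.map_comp, Category.assoc, sq.w]
    · intro h
      have h' : ∀ z : ↥Z.left, ∃ (L : Z.left.Opens) (r : resObj L ⟶ R), z ∈ L ∧
          r ≫ t = resι L ≫ x ∧ r ≫ s = resι L ≫ y := by
        intro z
        obtain ⟨L, hz, e' | ⟨x', y', hx, hy, e'⟩⟩ := h z
        · refine ⟨L, (resι L ≫ x) ≫ inl, hz, ?_, ?_⟩
          · rw [Category.assoc, hlt, Category.comp_id]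
          · rw [Category.assoc, hls, Category.comp_id, e']
        · obtain ⟨w, hw⟩ := (yon S).map_surjective (sq.lift _ _ e')
          have hw₁ : w ≫ p₁ = x' := (yon S).map_injective (by
            rw [Functor.map_comp, hw, sq.lift_fst])
          have hw₂ : w ≫ p₂ = y' := (yon S).map_injective (by
            rw [Functor.map_comp, hw, sq.lift_snd])
          by_cases hm : w.left ⟨z, hz⟩ ∈ Set.range e.left
          · obtain ⟨b, hb⟩ := exists_resLift_of_mem e w
            have eb : b = resι (w.left ⁻¹ᵁ e.left.opensRange) ≫ x' := by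
              rw [← hw₁, ← reassoc_of% hb, he₁, Category.comp_id]
            have eb' : b = resι (w.left ⁻¹ᵁ e.left.opensRange) ≫ y' := by
              rw [← hw₂, ← reassoc_of% hb, he₂, Category.comp_id]
            let M : Z.left.Opens := L.ι ''ᵁ (w.left ⁻¹ᵁ e.left.opensRange)
            let k : resObj M ⟶ resObj (w.left ⁻¹ᵁ e.left.opensRange) :=
              Over.homMk (Scheme.Hom.isoImage L.ι (w.left ⁻¹ᵁ e.left.opensRange)).inv (by
                show _ ≫ (w.left ⁻¹ᵁ e.left.opensRange).ι ≫ L.ι ≫ Z.hom = M.ι ≫ Z.hom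
                rw [Scheme.Hom.isoImage_inv_ι_assoc])
            have hk : k ≫ resι _ ≫ resι L = resι M :=
              Over.OverMorphism.ext (Scheme.Hom.isoImage_inv_ι _ _)
            refine ⟨M, (resι M ≫ x) ≫ inl, ⟨⟨z, hz⟩, hm, rfl⟩, ?_, ?_⟩
            · rw [Category.assoc, hlt, Category.comp_id]
            · rw [Category.assoc, hls, Category.comp_id, ← hk]
              simp only [Category.assoc, ← hx, ← hy]
              rw [← Category.assoc _ x', ← eb, ← Category.assoc _ y', ← eb']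
          · have : IsOpenImmersion (resι C).left := inferInstanceAs (IsOpenImmersion C.ι)
            obtain ⟨b, hb⟩ := exists_resLift_of_mem (resι C) w
            let M : Z.left.Opens := L.ι ''ᵁ (w.left ⁻¹ᵁ (resι C).left.opensRange)
            let k : resObj M ⟶ resObj (w.left ⁻¹ᵁ (resι C).left.opensRange) :=
              Over.homMk (Scheme.Hom.isoImage L.ι (w.left ⁻¹ᵁ (resι C).left.opensRange)).inv (by
                show _ ≫ (w.left ⁻¹ᵁ (resι C).left.opensRange).ι ≫ L.ι ≫ Z.hom = M.ι ≫ Z.hom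
                rw [Scheme.Hom.isoImage_inv_ι_assoc])
            have hk : k ≫ resι _ ≫ resι L = resι M :=
              Over.OverMorphism.ext (Scheme.Hom.isoImage_inv_ι _ _)
            refine ⟨M, k ≫ b ≫ inr, ⟨⟨z, hz⟩, ?_, rfl⟩, ?_, ?_⟩
            · show w.left ⟨z, hz⟩ ∈ C.ι.opensRange
              rw [Scheme.Opens.opensRange_ι]
              exact hm
            · rw [Category.assoc, Category.assoc, hrt, reassoc_of% hb, reassoc_of% hw₁, hx,
                reassoc_of% hk]
            · rw [Category.assoc, Category.assoc, hrs, reassoc_of% hb, reassoc_of% hw₂, hy,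
                reassoc_of% hk]
      choose L r hz hrt' hrs' using h'
      let 𝒰 := Z.left.openCoverOfIsOpenCover L
        (eq_top_iff.2 fun z _ => Opens.mem_iSup.2 ⟨z, hz z⟩)
      obtain ⟨g, hg⟩ := exists_glue_of_openCover 𝒰 (fun i => (yon S).map (r i))
        fun i j T p q epq => by
          rw [← Functor.map_comp, ← Functor.map_comp]
          refine congrArg (yon S).map (inj T _ _ ?_ ?_)
          · rw [Category.assoc, Category.assoc]; erw [hrt' i, hrt' j]
            refine (Category.assoc _ _ _).symm.trans (Eq.trans ?_ (Category.assoc _ _ _))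
            exact congrArg (· ≫ x) (Over.OverMorphism.ext epq)
          · rw [Category.assoc, Category.assoc]; erw [hrs' i, hrs' j]
            refine (Category.assoc _ _ _).symm.trans (Eq.trans ?_ (Category.assoc _ _ _))
            exact congrArg (· ≫ y) (Over.OverMorphism.ext epq)
      obtain ⟨g, rfl⟩ := (yon S).map_surjective g
      have hg' : ∀ i, resι (L i) ≫ g = r i := fun i => (yon S).map_injective (by
        rw [Functor.map_comp]; exact hg i)
      refine ⟨g, (yon S).map_injective (hom_ext_res fun z => ⟨L z, hz z, ?_⟩),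
        (yon S).map_injective (hom_ext_res fun z => ⟨L z, hz z, ?_⟩)⟩
      · rw [← Functor.map_comp, ← Functor.map_comp, ← Category.assoc, hg', hrt']
      · rw [← Functor.map_comp, ← Functor.map_comp, ← Category.assoc, hg', hrs']
  refine ⟨R, t, s, ⟨inj, fun Z => ⟨fun x => (hrel x x).2 (.of_eq rfl),
      fun h => (hrel _ _).2 ((hrel _ _).1 h).symm,
      fun h h' => (hrel _ _).2 (((hrel _ _).1 h).trans ((hrel _ _).1 h'))⟩⟩,
    ?_, ?_, hrel, ?_⟩
  · refine of_coprod_pieces _ ?_ ?_
    · show Etale (coprod.inl ≫ coprod.desc _ _)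
      rw [coprod.inl_desc]
      infer_instance
    · show Etale (coprod.inr ≫ coprod.desc _ _)
      rw [coprod.inr_desc]
      infer_instance
  · refine of_coprod_pieces _ ?_ ?_
    · show Etale (coprod.inl ≫ coprod.desc _ _)
      rw [coprod.inl_desc]
      infer_instance
    · show Etale (coprod.inr ≫ coprod.desc _ _)
      rw [coprod.inr_desc]
      infer_instance
  · intro huq hA hA'
    have : QuasiCompact p₁.left := repWith_fst_of_isPullback sq.flip huq
    have : CompactSpace ↥R₀.left := QuasiCompact.compactSpace_of_compactSpace p₁.left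
    have : CompactSpace ↥(C : Scheme.{u}) :=
      isCompact_iff_compactSpace.1 (e.left.isOpenEmbedding.isOpen_range.isClosed_compl.isCompact)
    exact (coprodMk A.left (C : Scheme.{u})).compactSpace

/-- The glued space. -/
theorem exists_gluing (hU : IsAlgSpace U) (hue : RepWith @Etale u) (hus : RepWith @IsSeparated u)
    (husurj : RepWith @Surjective u) :
    ∃ (W : Sp S) (π : (yon S).obj A ⟶ W) (j : U ⟶ W), IsAlgSpace W ∧ RepWith @Etale π ∧
      RepWith @Surjective π ∧
      (∀ {Z : Over S} (x y : Z ⟶ A),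
        (yon S).map x ≫ π = (yon S).map y ≫ π ↔ LocalRel ι u x y) ∧
      IsPullback u ((yon S).map ι) j π ∧ RepWith @IsOpenImmersion j ∧
      (RepWith @QuasiCompact u → CompactSpace ↥A'.left → CompactSpace ↥A.left →
        QuasiSeparatedSpace ↥(A ⨯ A).left → IsQuasiCompactSp W ∧ IsQuasiSeparatedSp W) := by
  have : Mono ι := (Over.forget S).mono_of_mono_map (inferInstanceAs (Mono ι.left))
  obtain ⟨R, t, s, hR, ht, hs, hrel, hcomp⟩ := exists_rel (ι := ι) hU hue hus
  have := isLocallySurjective_yonQuotπ s t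
  have sq := isPullback_yonQuot hR
  obtain ⟨hW, hπe, hπs⟩ := isAlgSpace_of_kernelPair sq
  let π := yonQuotπ s t
  have hker : ∀ {Z : Over S} (x y : Z ⟶ A),
      (yon S).map x ≫ π = (yon S).map y ≫ π ↔ LocalRel ι u x y := by
    intro Z x y
    rw [← hrel]
    constructor
    · intro e
      obtain ⟨r, hr⟩ := (yon S).map_surjective (sq.lift ((yon S).map x) ((yon S).map y) e)
      exact ⟨r, (yon S).map_injective (by rw [Functor.map_comp, hr, sq.lift_fst]),
        (yon S).map_injective (by rw [Functor.map_comp, hr, sq.lift_snd])⟩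
    · rintro ⟨r, rfl, rfl⟩
      rw [Functor.map_comp _ r t, Functor.map_comp _ r s, Category.assoc, Category.assoc]
      exact congrArg ((yon S).map r ≫ ·) sq.w
  obtain ⟨j, hj⟩ := exists_desc_of_etale u hue husurj ((yon S).map ι ≫ π) fun Z p q e => by
    obtain ⟨p, rfl⟩ := (yon S).map_surjective p
    obtain ⟨q, rfl⟩ := (yon S).map_surjective q
    rw [← Functor.map_comp_assoc, ← Functor.map_comp_assoc]
    refine (hker _ _).2 fun z => ⟨⊤, trivial, Or.inr ⟨resι ⊤ ≫ p, resι ⊤ ≫ q,
      Category.assoc _ _ _, Category.assoc _ _ _, ?_⟩⟩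
    simp only [Functor.map_comp, Category.assoc, e]
  have sqj : IsPullback u ((yon S).map ι) j π := by
    refine isPullback_of_covers hue husurj hj (fun x y _ e => (cancel_mono ι).1 e) fun x y e => ?_
    have h := (hker _ _).1 e
    have hy : Set.range y.left ⊆ Set.range ι.left := by
      rintro _ ⟨z, rfl⟩
      obtain ⟨L, hz, e' | ⟨x', y', -, hy, -⟩⟩ := h z
      · refine ⟨x.left z, ?_⟩
        have := congrArg (fun f => f.left ⟨z, hz⟩) e'
        simpa using this
      · refine ⟨y'.left ⟨z, hz⟩, ?_⟩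
        have := congrArg (fun f => f.left ⟨z, hz⟩) hy
        simpa using this
    let y' : _ ⟶ A' := Over.homMk (IsOpenImmersion.lift ι.left y.left hy) (by
      rw [← Over.w ι, IsOpenImmersion.lift_fac_assoc, Over.w y])
    have hy' : y' ≫ ι = y := Over.OverMorphism.ext (IsOpenImmersion.lift_fac _ _ _)
    refine ⟨y', ?_, hy'⟩
    refine hom_ext_res fun z => ?_
    obtain ⟨L, hz, e' | ⟨x₁, y₁, hx₁, hy₁, e'⟩⟩ := h z
    · refine ⟨L, hz, ?_⟩
      have : resι L ≫ x = resι L ≫ y' := (cancel_mono ι).1 (by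
        rw [Category.assoc, Category.assoc, hy']; exact e')
      rw [← Functor.map_comp_assoc, ← Functor.map_comp_assoc, this]
    · refine ⟨L, hz, ?_⟩
      have h₁ : x₁ = resι L ≫ x := (cancel_mono ι).1 (by rw [hx₁, Category.assoc])
      have h₂ : y₁ = resι L ≫ y' := (cancel_mono ι).1 (by rw [hy₁, Category.assoc, hy'])
      rw [← Functor.map_comp_assoc, ← Functor.map_comp_assoc, ← h₁, ← h₂, e']
  refine ⟨_, π, j, hW, hπe, hπs, hker, sqj,
    repWith_of_sepLQF (Q := @IsOpenImmersion) π sqj inferInstance, fun huq hA' hA hqs => ⟨?_, ?_⟩⟩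
  · exact ⟨A, π, hπe, hπs, hA⟩
  · have := hcomp huq hA hA'
    have hq : QuasiCompact (prod.lift t s).left := inferInstance
    have := isLocallySurjective_prod_map (π := π)
    exact repWith_of_isLocallySurjective _ hW.diag _ _ _ (isPullback_diag_yon sq)
      ((repWith_yon_map_iff _ _).2 hq)

/-- The kernel of a chart is the relation of gluing, when points off the open part are unique. -/
theorem map_eq_iff_localRel {X : Sp S} (hX : IsAlgSpace X) {a : (yon S).obj A ⟶ X} {j : U ⟶ X}
    (ha : RepWith @Etale a) (sqj : IsPullback u ((yon S).map ι) j a)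
    (hj : RepWith @IsOpenImmersion j)
    (hinj : ∀ {Z : Over S} (x y : Z ⟶ A), (yon S).map x ≫ a = (yon S).map y ≫ a →
      (∀ z, x.left z ∉ Set.range ι.left) → (∀ z, y.left z ∉ Set.range ι.left) → x = y)
    {Z : Over S} (x y : Z ⟶ A) :
    (yon S).map x ≫ a = (yon S).map y ≫ a ↔ LocalRel ι u x y := by
  have : Mono j := mono_of_repWith (fun _ _ k (_ : IsOpenImmersion k) => inferInstance) hj
  constructor
  · intro e z
    by_cases hx : x.left z ∈ Set.range ι.left
    · obtain ⟨x', hx'⟩ := exists_resLift_of_mem ι x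
      have e' : ((yon S).map x' ≫ u) ≫ j =
          (yon S).map (resι (x.left ⁻¹ᵁ ι.left.opensRange) ≫ y) ≫ a := by
        rw [Category.assoc, sqj.w, ← Functor.map_comp_assoc, hx', Functor.map_comp_assoc, e,
          Functor.map_comp_assoc]
      obtain ⟨y', hy'⟩ := (yon S).map_surjective (sqj.lift _ _ e')
      refine ⟨_, hx, Or.inr ⟨x', y', hx', (yon S).map_injective ?_, ?_⟩⟩
      · rw [Functor.map_comp _ y' ι, hy', sqj.lift_snd]
      · rw [hy', sqj.lift_fst]
    by_cases hy : y.left z ∈ Set.range ι.left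
    · obtain ⟨y', hy'⟩ := exists_resLift_of_mem ι y
      have e' : ((yon S).map y' ≫ u) ≫ j =
          (yon S).map (resι (y.left ⁻¹ᵁ ι.left.opensRange) ≫ x) ≫ a := by
        rw [Category.assoc, sqj.w, ← Functor.map_comp_assoc, hy', Functor.map_comp_assoc, ← e,
          Functor.map_comp_assoc]
      obtain ⟨x', hx'⟩ := (yon S).map_surjective (sqj.lift _ _ e')
      refine ⟨_, hy, Or.inr ⟨x', y', (yon S).map_injective ?_, hy', ?_⟩⟩
      · rw [Functor.map_comp _ x' ι, hx', sqj.lift_snd]
      · rw [hx', sqj.lift_fst]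
    obtain ⟨R, r₁, r₂, sqR⟩ := exists_pullback_of_diag hX.diag a a
    have : Etale r₁.left := repWith_fst_of_isPullback sqR.flip ha
    obtain ⟨d, hd⟩ := (yon S).map_surjective (sqR.lift (𝟙 _) (𝟙 _) rfl)
    have hd₁ : d ≫ r₁ = 𝟙 A := (yon S).map_injective (by
      rw [Functor.map_comp, hd, sqR.lift_fst, CategoryTheory.Functor.map_id])
    have hd₂ : d ≫ r₂ = 𝟙 A := (yon S).map_injective (by
      rw [Functor.map_comp, hd, sqR.lift_snd, CategoryTheory.Functor.map_id])
    have hd₁' : d.left ≫ r₁.left = 𝟙 _ := by rw [← Over.comp_left, hd₁]; rfl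
    have : Etale (d.left ≫ r₁.left) := by rw [hd₁']; infer_instance
    have : Etale d.left := Etale.of_comp d.left r₁.left
    have : Mono d.left := (SplitMono.mk r₁.left hd₁').mono
    have : IsOpenImmersion d.left := IsOpenImmersion.of_flat_of_mono d.left
    obtain ⟨r, hr⟩ := (yon S).map_surjective (sqR.lift _ _ e)
    have hr₁ : r ≫ r₁ = x := (yon S).map_injective (by rw [Functor.map_comp, hr, sqR.lift_fst])
    have hr₂ : r ≫ r₂ = y := (yon S).map_injective (by rw [Functor.map_comp, hr, sqR.lift_snd])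
    -- the residue point
    let κ : (FieldPt.ofPt ((yon S).map x ≫ a) z).pt ⟶ Z :=
      Over.homMk (Z.left.fromSpecResidueField z) rfl
    have hκ : κ ≫ x = κ ≫ y := by
      refine hinj _ _ ?_ (fun p hp => hx ?_) (fun p hp => hy ?_)
      · rw [Functor.map_comp_assoc, e, Functor.map_comp_assoc]
      · rwa [Over.comp_left, Scheme.Hom.comp_apply,
          show κ.left p = z from Scheme.fromSpecResidueField_apply z p] at hp
      · rwa [Over.comp_left, Scheme.Hom.comp_apply,
          show κ.left p = z from Scheme.fromSpecResidueField_apply z p] at hp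
    have hrd : κ ≫ r = (κ ≫ x) ≫ d := (yon S).map_injective (sqR.hom_ext
      (by rw [← Functor.map_comp, ← Functor.map_comp, Category.assoc, hr₁, Category.assoc, hd₁,
        Category.comp_id])
      (by rw [← Functor.map_comp, ← Functor.map_comp, Category.assoc, hr₂, Category.assoc, hd₂,
        Category.comp_id, hκ]))
    have hz : r.left z ∈ Set.range d.left := by
      refine ⟨(κ ≫ x).left (IsLocalRing.closedPoint _), ?_⟩
      have := congrArg (fun f => f.left (IsLocalRing.closedPoint _)) hrd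
      simp only [Over.comp_left, Scheme.Hom.comp_apply] at this
      rw [show κ.left (IsLocalRing.closedPoint _) = z from
        Scheme.fromSpecResidueField_apply z _] at this
      refine Eq.trans ?_ this.symm
      simp only [Over.comp_left, Scheme.Hom.comp_apply]
      exact congrArg (fun q => d.left (x.left q)) (Scheme.fromSpecResidueField_apply z _)
    obtain ⟨c, hc⟩ := exists_resLift_of_mem d r
    refine ⟨r.left ⁻¹ᵁ d.left.opensRange, hz, Or.inl ?_⟩
    rw [← hr₁, ← hr₂, ← reassoc_of% hc, ← reassoc_of% hc, hd₁, hd₂]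
  · intro h
    refine hom_ext_res fun z => ?_
    obtain ⟨L, hz, e | ⟨x', y', hx, hy, e⟩⟩ := h z
    · exact ⟨L, hz, by rw [← Functor.map_comp_assoc, ← Functor.map_comp_assoc, e]⟩
    · refine ⟨L, hz, ?_⟩
      rw [← Functor.map_comp_assoc, ← Functor.map_comp_assoc, ← hx, ← hy, Functor.map_comp_assoc,
        Functor.map_comp_assoc, ← sqj.w, reassoc_of% e]

/-- Maps of gluing data with cartesian squares give cartesian maps of the glued spaces. -/
theorem exists_isPullback_gluing {B B' : Over S} {ιB : B' ⟶ B} [IsOpenImmersion ιB.left]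
    {U₁ X X₁ : Sp S} {uB : (yon S).obj B' ⟶ U₁} {γ : A ⟶ B} {γ' : A' ⟶ B'} {h : U ⟶ U₁}
    (sqι : IsPullback γ' ι ιB γ) (squ : IsPullback u ((yon S).map γ') h uB)
    {a : (yon S).obj A ⟶ X} (ha : RepWith @Etale a) (has : RepWith @Surjective a)
    (hkA : ∀ {Z : Over S} (x y : Z ⟶ A),
      (yon S).map x ≫ a = (yon S).map y ≫ a ↔ LocalRel ι u x y)
    {π : (yon S).obj B ⟶ X₁}
    (hkB : ∀ {Z : Over S} (x y : Z ⟶ B),
      (yon S).map x ≫ π = (yon S).map y ≫ π ↔ LocalRel ιB uB x y) :
    ∃ q : X ⟶ X₁, IsPullback a ((yon S).map γ) q π := by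
  have : Mono ιB := (Over.forget S).mono_of_mono_map (inferInstanceAs (Mono ιB.left))
  have uniq : ∀ {Z : Over S} (x y : Z ⟶ A), (yon S).map x ≫ a = (yon S).map y ≫ a →
      x ≫ γ = y ≫ γ → x = y := by
    intro Z x y e eγ
    refine (yon S).map_injective (hom_ext_res fun z => ?_)
    obtain ⟨L, hz, e' | ⟨x', y', hx, hy, e'⟩⟩ := (hkA x y).1 e z
    · exact ⟨L, hz, by rw [← Functor.map_comp, ← Functor.map_comp, e']⟩
    · refine ⟨L, hz, ?_⟩
      have e₁ : x' ≫ γ' = y' ≫ γ' := (cancel_mono ιB).1 (by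
        rw [Category.assoc, sqι.w, reassoc_of% hx, Category.assoc, sqι.w, reassoc_of% hy, eγ])
      have e₂ : x' = y' := (yon S).map_injective (squ.hom_ext e'
        (by rw [← Functor.map_comp, ← Functor.map_comp, e₁]))
      rw [← Functor.map_comp, ← Functor.map_comp, ← hx, ← hy, e₂]
  refine exists_isPullback_of_covers ha has (fun {Z} x y e => (hkB _ _).2 fun z => ?_) uniq ?_
  · obtain ⟨L, hz, e' | ⟨x', y', hx, hy, e'⟩⟩ := (hkA x y).1 e z
    · exact ⟨L, hz, Or.inl (by rw [reassoc_of% e'])⟩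
    · refine ⟨L, hz, Or.inr ⟨x' ≫ γ', y' ≫ γ', ?_, ?_, ?_⟩⟩
      · rw [Category.assoc, sqι.w, reassoc_of% hx]
      · rw [Category.assoc, sqι.w, reassoc_of% hy]
      · rw [Functor.map_comp, Functor.map_comp, Category.assoc, Category.assoc, ← squ.w,
          reassoc_of% e']
  intro Z x y e
  have h' : ∀ z : ↥Z.left, ∃ (L : Z.left.Opens) (x' : resObj L ⟶ A), z ∈ L ∧
      (yon S).map x' ≫ a = (yon S).map (resι L ≫ x) ≫ a ∧ x' ≫ γ = resι L ≫ y := by
    intro z
    obtain ⟨L, hz, e' | ⟨a', b', hx, hy, e'⟩⟩ := (hkB _ _).1 e z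
    · exact ⟨L, resι L ≫ x, hz, rfl, by rw [Category.assoc, e']⟩
    · obtain ⟨x₀, hx₀, hx₀'⟩ : ∃ x₀ : resObj L ⟶ A', x₀ ≫ γ' = a' ∧ x₀ ≫ ι = resι L ≫ x :=
        ⟨sqι.lift a' (resι L ≫ x) (by rw [hx, Category.assoc]), sqι.lift_fst _ _ _,
          sqι.lift_snd _ _ _⟩
      have w₁ : ((yon S).map x₀ ≫ u) ≫ h = (yon S).map b' ≫ uB := by
        rw [Category.assoc, squ.w, ← Functor.map_comp_assoc, hx₀, e']
      obtain ⟨x₁, hx₁⟩ := (yon S).map_surjective (squ.lift _ _ w₁)
      have hx₁γ : x₁ ≫ γ' = b' := (yon S).map_injective (by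
        rw [Functor.map_comp _ x₁ γ', hx₁, squ.lift_snd])
      refine ⟨L, x₁ ≫ ι, hz, (hkA _ _).2 fun p => ⟨⊤, trivial, Or.inr
        ⟨resι ⊤ ≫ x₁, resι ⊤ ≫ x₀, Category.assoc _ _ _, by rw [Category.assoc, hx₀'], ?_⟩⟩, ?_⟩
      · rw [Functor.map_comp _ _ x₁, Functor.map_comp _ _ x₀, Category.assoc, Category.assoc, hx₁,
          squ.lift_fst]
      · rw [Category.assoc, ← sqι.w, reassoc_of% hx₁γ, hy]
  choose L x' hz hxa hxγ using h'
  have hcov : IsOpenCover L := eq_top_iff.2 fun z _ => Opens.mem_iSup.2 ⟨z, hz z⟩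
  obtain ⟨g, hg⟩ := exists_glue_of_openCover (Z.left.openCoverOfIsOpenCover L hcov) (fun i => (yon S).map (x' i))
    fun i j T p q epq => by
      rw [← Functor.map_comp, ← Functor.map_comp]
      have epq' : p ≫ resι (L i) = q ≫ resι (L j) := Over.OverMorphism.ext epq
      refine congrArg (yon S).map (uniq _ _ ?_ ?_)
      · refine ((congrArg (fun f => f ≫ a) ((yon S).map_comp p (x' i))).trans
          ((Category.assoc _ _ _).trans ((congrArg ((yon S).map p ≫ ·) (hxa i)).trans ?_))).trans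
          ((congrArg (fun f => f ≫ a) ((yon S).map_comp q (x' j))).trans
          ((Category.assoc _ _ _).trans (congrArg ((yon S).map q ≫ ·) (hxa j)))).symm
        refine (Category.assoc _ _ _).symm.trans (Eq.trans ?_ (Category.assoc _ _ _))
        refine congrArg (fun f => f ≫ a) (((yon S).map_comp p _).symm.trans
          ((congrArg (yon S).map ?_).trans ((yon S).map_comp q _)))
        refine (Category.assoc _ _ _).symm.trans (Eq.trans ?_ (Category.assoc _ _ _))
        exact congrArg (fun f => f ≫ x) epq'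
      · rw [Category.assoc, Category.assoc]
        erw [hxγ i, hxγ j]
        refine (Category.assoc _ _ _).symm.trans (Eq.trans ?_ (Category.assoc _ _ _))
        exact congrArg (fun f => f ≫ y) epq'
  obtain ⟨g, rfl⟩ := (yon S).map_surjective g
  have hg' : ∀ i, resι (L i) ≫ g = x' i := fun i => (yon S).map_injective (by
    rw [Functor.map_comp]; exact hg i)
  refine ⟨g, hom_ext_res fun z => ⟨L z, hz z, ?_⟩, (yon S).map_injective
    (hom_ext_res fun z => ⟨L z, hz z, ?_⟩)⟩
  · rw [← Functor.map_comp_assoc, ← Functor.map_comp_assoc, hg', hxa]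
  · rw [← Functor.map_comp, ← Functor.map_comp, ← Category.assoc, hg', hxγ]

end

end Groth.AlgSp2.Absolute
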