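import Groth.Agent.AlgSp2.Absolute.EtaleDataExists
import Groth.Agent.AlgSpBasic.Quotient
import Groth.Agent.AlgSp2.InfGlue
import Groth.Agent.AlgSp2.FpqcRep
import Groth.Agent.AlgSp2.LocPFpqc

/-!
# Schemes etale over a limit of spaces come from spaces etale over a stage
-/

set_option autoImplicit false
set_option linter.unusedSectionVars false
set_option backward.isDefEq.respectTransparency false
set_option backward.isDefEq.respectTransparency.types false

universe u

open CategoryTheory CategoryTheory.Limits AlgebraicGeometry Opposite AlgSp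
open Groth.AlgSpBasic Groth.SpLimit Groth.AlgSp3

noncomputable section

namespace Groth.AlgSp2.Absolute

variable {S : Scheme.{u}}

/-- A relation given by an open in the pairs has a quotient. -/
theorem Dat.exists_quotient [QuasiSeparatedSpace S] {I : Type u} [SmallCategory I] [IsCofiltered I]
    {D : I ⥤ Sp S} {c : Cone D} {E₀ W : Over S} {a : E₀ ⟶ W} {w : (yon S).obj W ⟶ c.pt}
    (d : Dat c a w) (hD : ∀ i, IsAlgSpace (D.obj i)) (hqs : ∀ i, IsQuasiSeparatedSp (D.obj i))
    (heq : ∀ Z : Over S, Equivalence (d.Rel (Z := Z))) :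
    ∃ (F : Sp S) (π : (yon S).obj d.B ⟶ F) (w₀ : F ⟶ D.obj d.i), IsAlgSpace F ∧
      IsQuasiCompactSp F ∧ IsQuasiSeparatedSp F ∧ RepWith @Etale π ∧ RepWith @Surjective π ∧
      π ≫ w₀ = d.b ∧ IsEtaleMor w₀ ∧
      ∀ {Z : Over S} (x y : Z ⟶ d.B), (yon S).map x ≫ π = (yon S).map y ≫ π ↔ d.Rel x y := by
  have := d.affine
  obtain ⟨hRc, hRs⟩ := d.compact_R hD hqs
  let t : resObj d.O ⟶ d.B := resι d.O ≫ d.r₁
  let s : resObj d.O ⟶ d.B := resι d.O ≫ d.r₂
  have hrel : ∀ {Z : Over S} (x y : Z ⟶ d.B),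
      (∃ r : Z ⟶ resObj d.O, r ≫ t = x ∧ r ≫ s = y) ↔ d.Rel x y := by
    intro Z x y
    constructor
    · rintro ⟨r, rfl, rfl⟩
      refine ⟨r ≫ resι d.O, Category.assoc _ _ _, Category.assoc _ _ _, ?_⟩
      rw [Over.comp_left, Scheme.Hom.comp_preimage]
      show r.left ⁻¹ᵁ (d.O.ι ⁻¹ᵁ d.O) = ⊤
      rw [Scheme.Opens.ι_preimage_self, Scheme.Hom.preimage_top]
    · rintro ⟨z, rfl, rfl, hz⟩
      have hr : Set.range z.left ⊆ Set.range d.O.ι := by
        rw [Scheme.Opens.range_ι]
        rintro _ ⟨p, rfl⟩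
        exact (preimage_eq_top_iff _ _).1 hz p
      let r : Z ⟶ resObj d.O := Over.homMk (IsOpenImmersion.lift d.O.ι z.left hr) (by
        show _ ≫ d.O.ι ≫ d.R.hom = _
        rw [IsOpenImmersion.lift_fac_assoc, Over.w z])
      have hr' : r ≫ resι d.O = z := Over.OverMorphism.ext (IsOpenImmersion.lift_fac _ _ _)
      exact ⟨r, by rw [← hr']; simp [t], by rw [← hr']; simp [s]⟩
  have hR : IsEqvRel s t := by
    refine ⟨fun T r r' h₁ h₂ => ?_, fun T => ?_⟩
    · refine (cancel_mono (resι d.O)).1 ((yon S).map_injective (d.sqR.hom_ext ?_ ?_))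
      · simpa [t, ← Functor.map_comp] using congrArg (yon S).map h₁
      · simpa [s, ← Functor.map_comp] using congrArg (yon S).map h₂
    · have e : (fun a b : T ⟶ d.B => ∃ r : T ⟶ resObj d.O, r ≫ t = a ∧ r ≫ s = b) = d.Rel :=
        funext fun x => funext fun y => propext (hrel x y)
      rw [e]
      exact heq T
  have := isLocallySurjective_yonQuotπ s t
  have sq := isPullback_yonQuot hR
  have hr₁ : Etale d.r₁.left :=
    (repWith_yon_map_iff _ d.r₁).1 (repWith_of_isPullback d.sqR.flip d.etale)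
  have hr₂ : Etale d.r₂.left :=
    (repWith_yon_map_iff _ d.r₂).1 (repWith_of_isPullback d.sqR d.etale)
  have : Etale t.left := by
    show Etale (d.O.ι ≫ d.r₁.left)
    infer_instance
  have : Etale s.left := by
    show Etale (d.O.ι ≫ d.r₂.left)
    infer_instance
  obtain ⟨hF, hπe, hπs⟩ := isAlgSpace_of_kernelPair sq
  let π := yonQuotπ s t
  have hker : ∀ {Z : Over S} (x y : Z ⟶ d.B),
      (yon S).map x ≫ π = (yon S).map y ≫ π ↔ d.Rel x y := by
    intro Z x y
    rw [← hrel]
    constructor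
    · intro e
      obtain ⟨r, hr⟩ := (yon S).map_surjective (sq.lift ((yon S).map x) ((yon S).map y) e)
      exact ⟨r, (yon S).map_injective (by rw [Functor.map_comp, hr, sq.lift_fst]),
        (yon S).map_injective (by rw [Functor.map_comp, hr, sq.lift_snd])⟩
    · rintro ⟨r, rfl, rfl⟩
      rw [Functor.map_comp _ r t, Functor.map_comp _ r s, Category.assoc, Category.assoc]
      exact congrArg ((yon S).map r ≫ ·) sq.w
  obtain ⟨w₀, hw₀⟩ := exists_desc_of_etale π hπe hπs d.b fun Z p q e => by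
    obtain ⟨p, rfl⟩ := (yon S).map_surjective p
    obtain ⟨q, rfl⟩ := (yon S).map_surjective q
    exact d.rel_base ((hker p q).1 e)
  refine ⟨_, π, w₀, hF, ⟨d.B, π, hπe, hπs, inferInstance⟩, ?_, hπe, hπs, hw₀, ?_, hker⟩
  · have : CompactSpace (resObj d.O).left := isCompact_iff_compactSpace.1 d.compact
    have : QuasiSeparatedSpace (d.B ⨯ d.B).left := by
      have : QuasiSeparatedSpace ↥(pullback d.B.hom d.B.hom) :=
        quasiSeparatedSpace_of_quasiSeparated (pullback.fst d.B.hom d.B.hom)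
      exact quasiSeparatedSpace_of_quasiSeparated (Over.prodLeftIsoPullback d.B d.B).hom
    have hq : QuasiCompact (prod.lift t s).left := inferInstance
    have := isLocallySurjective_prod_map (π := π)
    exact repWith_of_isLocallySurjective _ hF.diag _ _ _ (isPullback_diag_yon sq)
      ((repWith_yon_map_iff _ _).2 hq)
  · refine isEtaleMor_of_locP (hD _) (locP_of_source_cover hF (hD _) hπe hπs ?_)
    rw [hw₀]
    exact locP_of_repWith d.etale

variable [QuasiSeparatedSpace S] {I : Type u} [SmallCategory I] [IsCofiltered I] {D : I ⥤ Sp S}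
  {c : Cone D} (hD : ∀ i, IsAlgSpace (D.obj i))
  (hDa : ∀ (i j : I) (φ : i ⟶ j), IsAffineMor (D.map φ)) (hc : IsLimit c)
  (hqc : ∀ i, IsQuasiCompactSp (D.obj i)) (hqs : ∀ i, IsQuasiSeparatedSp (D.obj i))

include hD hDa hc hqc hqs in
/-- A quasi-compact, quasi-separated scheme etale over the limit is the base change of a space etale
over a stage. -/
theorem exists_etale_space_model {W : Over S} [CompactSpace W.left] [QuasiSeparatedSpace W.left]
    (w : (yon S).obj W ⟶ c.pt) (hw : RepWith @Etale w) :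
    ∃ (i : I) (F : Sp S) (w₀ : F ⟶ D.obj i) (q : (yon S).obj W ⟶ F), IsAlgSpace F ∧
      IsQuasiCompactSp F ∧ IsQuasiSeparatedSp F ∧ IsEtaleMor w₀ ∧
      IsPullback q w w₀ (c.π.app i) := by
  obtain ⟨E₀, a, hE₀, hae, has, ⟨d₀⟩⟩ := exists_dat hD hDa hc hqc hqs w hw
  obtain ⟨d, -, heq⟩ := d₀.exists_equivalence hD hDa hc hqs
  obtain ⟨F, π, w₀, hF, hFc, hFs, hπe, hπs, hw₀, hwe, hker⟩ := d.exists_quotient hD hqs heq
  have ha₁ : RepWith @Etale ((yon S).map a) := (repWith_yon_map_iff _ a).2 hae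
  have ha₂ : RepWith @Surjective ((yon S).map a) := (repWith_yon_map_iff _ a).2 has
  obtain ⟨q, hq⟩ := exists_desc_of_etale ((yon S).map a) ha₁ ha₂ ((yon S).map d.γ ≫ π) fun Z p r e => by
    obtain ⟨p, rfl⟩ := (yon S).map_surjective p
    obtain ⟨r, rfl⟩ := (yon S).map_surjective r
    rw [← Functor.map_comp_assoc, ← Functor.map_comp_assoc, hker]
    exact (d.rel_iff p r (by rw [reassoc_of% e])).2 ((yon S).map_injective (by
      rw [Functor.map_comp, Functor.map_comp]; exact e))
  have hw' : q ≫ w₀ = w ≫ c.π.app d.i := hom_ext_of_etale _ ha₁ ha₂ (by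
    rw [reassoc_of% hq, hw₀, d.sq.w, Category.assoc])
  -- lifts to the chart
  have lift : ∀ {Z : Over S} (x : Z ⟶ W), ∃ (Z' : Over S) (h : Z' ⟶ Z) (x' : Z' ⟶ E₀),
      Etale h.left ∧ Surjective h.left ∧ x' ≫ a = h ≫ x := by
    intro Z x
    obtain ⟨Z', x', h, sq⟩ : ∃ (Z' : Over S) (x' : Z' ⟶ E₀) (h : Z' ⟶ Z), IsPullback x' h a x :=
      ⟨_, _, _, IsPullback.of_hasPullback _ _⟩
    exact ⟨Z', h, x', MorphismProperty.of_isPullback (P := @Etale) (isPullback_left sq) hae,
      MorphismProperty.of_isPullback (P := @Surjective) (isPullback_left sq) has, sq.w⟩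
  have inj : ∀ {Z : Over S} (x y : Z ⟶ W), (yon S).map x ≫ q = (yon S).map y ≫ q →
      (yon S).map x ≫ w = (yon S).map y ≫ w → x = y := by
    intro Z x y hxy hxw
    obtain ⟨Z₁, h₁, x', _, _, hx'⟩ := lift x
    obtain ⟨Z₂, h₂, y', _, _, hy'⟩ := lift (h₁ ≫ y)
    have e : (yon S).map (h₂ ≫ x') ≫ (yon S).map a = (yon S).map (h₂ ≫ h₁ ≫ x) := by
      rw [← Functor.map_comp, Category.assoc, hx']
    have e' : (yon S).map y' ≫ (yon S).map a = (yon S).map (h₂ ≫ h₁ ≫ y) := by
      rw [← Functor.map_comp, hy']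
    have hu : (yon S).map (h₂ ≫ x') ≫ (yon S).map a ≫ w = (yon S).map y' ≫ (yon S).map a ≫ w := by
      rw [← Category.assoc, e, ← Category.assoc ((yon S).map y'), e']
      simp only [Functor.map_comp, Category.assoc, hxw]
    have hr : d.Rel ((h₂ ≫ x') ≫ d.γ) (y' ≫ d.γ) := by
      rw [← hker, Functor.map_comp _ (h₂ ≫ x') d.γ, Functor.map_comp _ y' d.γ, Category.assoc,
        Category.assoc, ← hq, ← Category.assoc, e, ← Category.assoc ((yon S).map y'), e']
      simp only [Functor.map_comp, Category.assoc, hxy]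
    have := (d.rel_iff _ _ hu).1 hr
    rw [Category.assoc, hx', hy'] at this
    refine (yon S).map_injective (hom_ext_of_fppf h₁ (hom_ext_of_fppf h₂ ?_))
    rw [← Functor.map_comp, ← Functor.map_comp, ← Functor.map_comp, ← Functor.map_comp, this]
  refine ⟨d.i, F, w₀, q, hF, hFc, hFs, hwe, ?_⟩
  have sP := IsPullback.of_hasPullback w₀ (c.π.app d.i)
  let l := sP.lift q w hw'
  have hl₁ : l ≫ pullback.fst w₀ (c.π.app d.i) = q := sP.lift_fst _ _ _
  have hl₂ : l ≫ pullback.snd w₀ (c.π.app d.i) = w := sP.lift_snd _ _ _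
  have : IsIso l := by
    refine isIso_of_bijective_comp _ fun Z => ⟨fun x y e => ?_, fun z => ?_⟩
    · obtain ⟨x, rfl⟩ := (yon S).map_surjective x
      obtain ⟨y, rfl⟩ := (yon S).map_surjective y
      refine congrArg (yon S).map (inj x y ?_ ?_)
      · simpa [hl₁] using congrArg (· ≫ pullback.fst w₀ (c.π.app d.i)) e
      · simpa [hl₂] using congrArg (· ≫ pullback.snd w₀ (c.π.app d.i)) e
    · let z₁ := z ≫ pullback.fst w₀ (c.π.app d.i)
      let z₂ := z ≫ pullback.snd w₀ (c.π.app d.i)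
      have hzw : z₁ ≫ w₀ = z₂ ≫ c.π.app d.i := by
        simp only [z₁, z₂, Category.assoc, pullback.condition]
      obtain ⟨Z', h, y₀, sq⟩ := hπe.rep z₁
      obtain ⟨y, rfl⟩ := (yon S).map_surjective y₀
      have : Etale h.left := hπe.property _ _ h sq
      have : Surjective h.left := hπs.property _ _ h sq
      have hyπ : (yon S).map y ≫ π = (yon S).map h ≫ z₁ := sq.w
      obtain ⟨x, hx⟩ := (yon S).map_surjective (d.sq.lift ((yon S).map y) ((yon S).map h ≫ z₂)
        (by rw [← hw₀, reassoc_of% hyπ, hzw]; simp only [z₂, Category.assoc]))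
      have hx₁ : (yon S).map (x ≫ a) ≫ q = (yon S).map h ≫ z₁ := by
        rw [Functor.map_comp, Category.assoc, hq, hx, ← Category.assoc, d.sq.lift_fst, hyπ]
      have hx₂ : (yon S).map (x ≫ a) ≫ w = (yon S).map h ≫ z₂ := by
        rw [Functor.map_comp, Category.assoc, hx, d.sq.lift_snd]
      obtain ⟨m, hm⟩ := exists_glue_of_fppf h ((yon S).map (x ≫ a)) fun V p r e => by
        rw [← Functor.map_comp, ← Functor.map_comp]
        refine congrArg (yon S).map (inj _ _ ?_ ?_) <;>
          simp only [Functor.map_comp _ p, Functor.map_comp _ r, Category.assoc, hx₁, hx₂] <;>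
          rw [← Functor.map_comp_assoc, ← Functor.map_comp_assoc, e]
      refine ⟨m, sP.hom_ext (hom_ext_of_fppf h ?_) (hom_ext_of_fppf h ?_)⟩
      · simp only [Category.assoc, hl₁, reassoc_of% hm, hx₁, z₁]
      · simp only [Category.assoc, hl₂, reassoc_of% hm, hx₂, z₂]
  refine IsPullback.of_iso sP (asIso l).symm (Iso.refl _) (Iso.refl _) (Iso.refl _) ?_ ?_ (by simp)
    (by simp)
  · simp only [Iso.refl_hom, Category.comp_id, Iso.symm_hom, asIso_inv]
    rw [IsIso.eq_inv_comp, hl₁]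
  · simp only [Iso.refl_hom, Category.comp_id, Iso.symm_hom, asIso_inv]
    rw [IsIso.eq_inv_comp, hl₂]

end Groth.AlgSp2.Absolute
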