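import Groth.Agent.AlgSp2.Absolute.RelApprox
import Mathlib.CategoryTheory.Filtered.Final

/-!
# Approximation of morphisms over the terminal base
-/

set_option autoImplicit false
set_option linter.unusedSectionVars false
set_option backward.isDefEq.respectTransparency false
set_option backward.isDefEq.respectTransparency.types false
universe u

open CategoryTheory CategoryTheory.Limits AlgebraicGeometry Opposite AlgSp
open Groth.AlgSpBasic Groth.AlgSp2 Groth.AlgSp2.Approx Groth.SpLimit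

namespace Groth.AlgSp2.Absolute

noncomputable section

variable {S : Scheme.{u}}

theorem quasiSeparatedSpace_of_isTerminal (hS : IsTerminal S) : QuasiSeparatedSpace S :=
  quasiSeparatedSpace_of_quasiSeparated (specULiftZIsTerminal.uniqueUpToIso hS).inv

variable {I J : Type u} [Preorder I] [Preorder J] {DX : Iᵒᵖ ⥤ Sp S} {DY : Jᵒᵖ ⥤ Sp S}
  (i₀ : J → I) (h₀ : ∀ j, DX.obj (op (i₀ j)) ⟶ DY.obj (op j))

/-- A pair of stages with a chosen map between them. -/
structure StageMap : Type u where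
  i : I
  j : J
  le : i₀ j ≤ i

variable {i₀}

/-- The map between the stages. -/
def StageMap.h (a : StageMap i₀) : DX.obj (op a.i) ⟶ DY.obj (op a.j) :=
  DX.map (homOfLE a.le).op ≫ h₀ a.j

/-- The order making the maps compatible. -/
def stagePre : Preorder (StageMap i₀) where
  le a b := ∃ (hi : a.i ≤ b.i) (hj : a.j ≤ b.j),
    DX.map (homOfLE hi).op ≫ a.h h₀ = b.h h₀ ≫ DY.map (homOfLE hj).op
  le_refl a := ⟨le_rfl, le_rfl, by simp⟩
  le_trans a b c := fun ⟨hi, hj, e⟩ ⟨hi', hj', e'⟩ => ⟨hi.trans hi', hj.trans hj', by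
    rw [show (homOfLE (hi.trans hi')).op = (homOfLE hi').op ≫ (homOfLE hi).op from Subsingleton.elim _ _,
      show (homOfLE (hj.trans hj')).op = (homOfLE hj').op ≫ (homOfLE hj).op from Subsingleton.elim _ _,
      Functor.map_comp, Functor.map_comp, Category.assoc, e, reassoc_of% e']⟩

theorem monotone_i : @Monotone _ _ (stagePre h₀) _ (StageMap.i (i₀ := i₀)) := fun _ _ h => h.1

theorem monotone_j : @Monotone _ _ (stagePre h₀) _ (StageMap.j (i₀ := i₀)) := fun _ _ h => h.2.1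

/-- The natural map of the stages. -/
def stageNat :
    letI := stagePre h₀
    (monotone_i h₀).functor.op ⋙ DX ⟶ (monotone_j h₀).functor.op ⋙ DY :=
  letI := stagePre h₀
  { app := fun a => a.unop.h h₀
    naturality := fun a b φ => by
      obtain ⟨hi, hj, e⟩ := leOfHom φ.unop
      exact (show DX.map (homOfLE hi).op ≫ b.unop.h h₀ = a.unop.h h₀ ≫ DY.map (homOfLE hj).op from e) }

/-- Morphisms of qcqs spaces over the terminal base are limits of morphisms of finite type. -/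
theorem exists_limit_mor (hS : IsTerminal S) {X Y : Sp S} (hX : IsAlgSpace X) (hY : IsAlgSpace Y)
    (f : X ⟶ Y) (hXc : IsQuasiCompactSp X) (hXs : IsQuasiSeparatedSp X)
    (hYc : IsQuasiCompactSp Y) (hYs : IsQuasiSeparatedSp Y) :
    ∃ (K : Type u) (_ : Preorder K) (_ : IsDirected K (fun a b => a ≤ b)) (_ : Nonempty K)
      (DX DY : Kᵒᵖ ⥤ Sp S) (φ : DX ⟶ DY) (cX : Cone DX) (cY : Cone DY) (_ : IsLimit cX)
      (_ : IsLimit cY) (eX : cX.pt ≅ X) (eY : cY.pt ≅ Y),
      (∀ i, IsAlgSpace (DX.obj i) ∧ IsAlgSpace (DY.obj i)) ∧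
      (∀ (i j : Kᵒᵖ) (g : i ⟶ j), IsAffineMor (DX.map g) ∧ IsAffineMor (DY.map g)) ∧
      (∀ i, IsQuasiSeparatedSp (DX.obj i) ∧ IsQuasiSeparatedSp (DY.obj i) ∧
        (∀ q : DX.obj i ⟶ (yon S).obj (Over.mk (𝟙 S)), IsFiniteTypeMor q) ∧
        (∀ q : DY.obj i ⟶ (yon S).obj (Over.mk (𝟙 S)), IsFiniteTypeMor q)) ∧
      (∀ i, cX.π.app i ≫ φ.app i = eX.hom ≫ f ≫ eY.inv ≫ cY.π.app i) := by
  have := quasiSeparatedSpace_of_isTerminal hS
  have hbase : IsQuasiSeparatedSp ((yon S).obj (Over.mk (𝟙 S))) :=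
    have : QuasiSeparated (Over.mk (𝟙 S)).hom := inferInstanceAs (QuasiSeparated (𝟙 S))
    isQuasiSeparatedSp_yon_of_hom _
  obtain ⟨qX, -⟩ := exists_toBase hX
  obtain ⟨qY, -⟩ := exists_toBase hY
  obtain ⟨I, hI, hI', hIne, DX, tX, cX, hcX, eX, hDX, hDXa, hDXq, htX, -⟩ :=
    exists_limit_fp hX hXc hXs (IsAlgSpace.yon_obj _) hbase qX
  obtain ⟨J, hJ, hJ', hJne, DY, tY, cY, hcY, eY, hDY, hDYa, hDYq, htY, -⟩ :=
    exists_limit_fp hY hYc hYs (IsAlgSpace.yon_obj _) hbase qY
  let F : cX.pt ⟶ cY.pt := eX.hom ≫ f ≫ eY.inv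
  have hlift : ∀ j : J, ∃ (i : I) (h : DX.obj (op i) ⟶ DY.obj (op j)),
      cX.π.app (op i) ≫ h = F ≫ cY.π.app (op j) := fun j => by
    obtain ⟨k, φ, h, hh, -⟩ := space_exists_lift hDX hDXa hcX (fun l => (hDXq l).1) (hDY (op j))
      (IsAlgSpace.yon_obj _) (htY (op j)).1 (fun l => (hDXq l).2) (i := op hIne.some)
      (tX.app (op hIne.some)) (F ≫ cY.π.app (op j)) (base_hom_ext _ _)
    exact ⟨k.unop, h, hh⟩
  choose i₀ h₀ hh₀ using hlift
  let _ : Preorder (StageMap i₀) := stagePre h₀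
  have hw : ∀ a : StageMap i₀, cX.π.app (op a.i) ≫ a.h h₀ = F ≫ cY.π.app (op a.j) := fun a => by
    show cX.π.app (op a.i) ≫ DX.map (homOfLE a.le).op ≫ h₀ a.j = _
    rw [cX.w_assoc, hh₀]
  have hA : ∀ (j : J) (i : I), ∃ a : StageMap i₀, i ≤ a.i ∧ a.j = j := fun j i => by
    obtain ⟨l, hl, hl'⟩ := directed_of (fun x y => x ≤ y) i (i₀ j)
    exact ⟨⟨l, j, hl'⟩, hl, rfl⟩
  have hdir : IsDirected (StageMap i₀) (fun a b => a ≤ b) := ⟨fun a b => by
    obtain ⟨j, hja, hjb⟩ := directed_of (fun x y => x ≤ y) a.j b.j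
    obtain ⟨i, hia, hib⟩ := directed_of (fun x y => x ≤ y) a.i b.i
    obtain ⟨c, hic, rfl⟩ := hA j i
    have hs : ∀ (d : StageMap i₀) (hi : d.i ≤ c.i) (hj : d.j ≤ c.j),
        ∃ (l : I) (hl : c.i ≤ l), DX.map (homOfLE (hi.trans hl)).op ≫ d.h h₀ =
          DX.map (homOfLE hl).op ≫ c.h h₀ ≫ DY.map (homOfLE hj).op := by
      intro d hi hj
      obtain ⟨l, φ, e⟩ := space_eq_eventually hDX hDXa hcX (fun l => (hDXq l).1) (hDY (op d.j))
        (IsAlgSpace.yon_obj _) (htY (op d.j)).1 (i := op c.i) (DX.map (homOfLE hi).op ≫ d.h h₀)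
        (c.h h₀ ≫ DY.map (homOfLE hj).op) (base_hom_ext _ _) (by
          rw [cX.w_assoc, hw d, reassoc_of% (hw c), cY.w])
      refine ⟨l.unop, leOfHom φ.unop, ?_⟩
      rw [show (homOfLE (hi.trans (leOfHom φ.unop))).op = φ ≫ (homOfLE hi).op from
          Subsingleton.elim _ _, Functor.map_comp, Category.assoc, e,
        show (homOfLE (leOfHom φ.unop)).op = φ from Subsingleton.elim _ _]
    obtain ⟨la, hla, ea⟩ := hs a (hia.trans hic) hja
    obtain ⟨lb, hlb, eb⟩ := hs b (hib.trans hic) hjb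
    obtain ⟨l, hal, hbl⟩ := directed_of (fun x y => x ≤ y) la lb
    let d : StageMap i₀ := ⟨l, c.j, c.le.trans (hla.trans hal)⟩
    have hd : d.h h₀ = DX.map (homOfLE (hla.trans hal)).op ≫ c.h h₀ := by
      show DX.map _ ≫ h₀ c.j = DX.map _ ≫ DX.map _ ≫ h₀ c.j
      rw [← Functor.map_comp_assoc]
      rfl
    refine ⟨d, ⟨(hia.trans hic).trans (hla.trans hal), hja, ?_⟩,
      ⟨(hib.trans hic).trans (hlb.trans hbl), hjb, ?_⟩⟩
    · rw [hd]
      rw [show (homOfLE ((hia.trans hic).trans (hla.trans hal))).op =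
          (homOfLE hal).op ≫ (homOfLE ((hia.trans hic).trans hla)).op from Subsingleton.elim _ _,
        show (homOfLE (hla.trans hal)).op = (homOfLE hal).op ≫ (homOfLE hla).op from
          Subsingleton.elim _ _, Functor.map_comp, Functor.map_comp, Category.assoc, ea]
      simp only [Category.assoc]
    · rw [hd]
      rw [show (homOfLE ((hib.trans hic).trans (hlb.trans hbl))).op =
          (homOfLE hbl).op ≫ (homOfLE ((hib.trans hic).trans hlb)).op from Subsingleton.elim _ _,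
        show (homOfLE (hla.trans hal)).op = (homOfLE hbl).op ≫ (homOfLE hlb).op from
          Subsingleton.elim _ _, Functor.map_comp, Functor.map_comp, Category.assoc, eb]
      simp only [Category.assoc]⟩
  have : IsDirectedOrder (StageMap i₀) := hdir
  have hne : Nonempty (StageMap i₀) := ⟨(hA hJne.some hIne.some).choose⟩
  have : (monotone_i h₀).functor.Final := (Monotone.final_functor_iff _).2 fun i => by
    obtain ⟨a, ha, -⟩ := hA hJne.some i
    exact ⟨a, ha⟩
  have : (monotone_j h₀).functor.Final := (Monotone.final_functor_iff _).2 fun j => by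
    obtain ⟨a, -, rfl⟩ := hA j hIne.some
    exact ⟨a, le_rfl⟩
  refine ⟨StageMap i₀, inferInstance, hdir, hne, _, _, stageNat h₀,
    cX.whisker (monotone_i h₀).functor.op, cY.whisker (monotone_j h₀).functor.op,
    (Functor.Initial.isLimitWhiskerEquiv _ cX).symm hcX,
    (Functor.Initial.isLimitWhiskerEquiv _ cY).symm hcY, eX, eY,
    fun a => ⟨hDX _, hDY _⟩, fun a b g => ⟨hDXa _ _ _, hDYa _ _ _⟩, fun a => ?_, fun a => ?_⟩
  · refine ⟨(hDXq _).2, (hDYq _).2, fun q => ⟨?_, ?_⟩, fun q => ⟨?_, ?_⟩⟩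
    · exact locP_mono (P := @LocallyOfFinitePresentation)
        (fun _ _ k (_ : LocallyOfFinitePresentation k) => (inferInstance : LocallyOfFiniteType k))
        (base_hom_ext (tX.app _) q ▸ (htX _).1)
    · exact base_hom_ext (tX.app _) q ▸ (htX _).2.1
    · exact locP_mono (P := @LocallyOfFinitePresentation)
        (fun _ _ k (_ : LocallyOfFinitePresentation k) => (inferInstance : LocallyOfFiniteType k))
        (base_hom_ext (tY.app _) q ▸ (htY _).1)
    · exact base_hom_ext (tY.app _) q ▸ (htY _).2.1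
  · show cX.π.app _ ≫ a.unop.h h₀ = _
    exact (hw a.unop).trans (by simp only [F, Category.assoc]; rfl)

end

end Groth.AlgSp2.Absolute
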