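import Groth.Agent.AlgSp2.Absolute.OpenExtensionRing
import Groth.Agent.Limits.ApproxChart
import Mathlib.AlgebraicGeometry.AffineTransitionLimit
import Mathlib.AlgebraicGeometry.Morphisms.FinitePresentation

/-!
# Opens of affine schemes which are limits extend at a stage to opens of affine schemes of finite
presentation
-/

set_option autoImplicit false
set_option backward.isDefEq.respectTransparency false
set_option backward.isDefEq.respectTransparency.types false
universe u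

open CategoryTheory CategoryTheory.Limits AlgebraicGeometry TopologicalSpace Opposite

namespace Groth.AlgSp2.Absolute

noncomputable section

variable {R : CommRingCat.{u}} {J : Type u} [SmallCategory J] [IsCofiltered J] (D : J ⥤ Scheme.{u})
  (c : Cone D) (hc : IsLimit c)

include hc in
theorem exists_stage_affine_cover [∀ {i j} (φ : i ⟶ j), IsAffineHom (D.map φ)]
    [∀ i, CompactSpace (D.obj i)] [∀ i, QuasiSeparatedSpace (D.obj i)] {n : ℕ}
    (s : Fin n → Γ(c.pt, ⊤)) (hs : ∀ l, IsAffineOpen (c.pt.basicOpen (s l)))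
    (hcov : ⨆ l, c.pt.basicOpen (s l) = ⊤) :
    ∃ (i : J) (g : Fin n → Γ(D.obj i, ⊤)), (∀ l, (c.π.app i).appTop (g l) = s l) ∧
      (∀ l, IsAffineOpen ((D.obj i).basicOpen (g l))) ∧ ⨆ l, (D.obj i).basicOpen (g l) = ⊤ := by
  classical
  choose i₁ t ht using fun l => exists_appTop_π_eq_of_isLimit D c hc (s l)
  choose i₂ V hV hVU using fun l => exists_isAffineOpen_preimage_eq D c hc _ (hs l)
  obtain ⟨i₀, hi₀⟩ := IsCofiltered.inf_objs_exists
    (Finset.univ.image i₁ ∪ Finset.univ.image i₂)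
  let a : ∀ l, i₀ ⟶ i₁ l := fun l => (hi₀ (by simp)).some
  let b : ∀ l, i₀ ⟶ i₂ l := fun l => (hi₀ (by simp)).some
  let g₀ : Fin n → Γ(D.obj i₀, ⊤) := fun l => (D.map (a l)).appTop (t l)
  have hg₀ : ∀ l, (c.π.app i₀).appTop (g₀ l) = s l := fun l => by
    show ((D.map (a l)).appTop ≫ (c.π.app i₀).appTop) (t l) = s l
    rw [← Scheme.Hom.comp_appTop, c.w]
    exact (ht l).symm
  have hpre : ∀ l, c.π.app i₀ ⁻¹ᵁ (D.obj i₀).basicOpen (g₀ l) =
      c.π.app i₀ ⁻¹ᵁ (D.map (b l) ⁻¹ᵁ V l) := fun l => by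
    rw [Scheme.preimage_basicOpen_top, hg₀, ← Scheme.Hom.comp_preimage, c.w, hVU]
    rfl
  choose j φ hφ using fun l => exists_map_preimage_eq_map_preimage D c hc
    (isCompact_basicOpen _ isCompact_univ (g₀ l))
    ((hV l).preimage (D.map (b l))).isCompact (hpre l)
  obtain ⟨i₃, hi₃⟩ := IsCofiltered.inf_objs_exists (insert i₀ (Finset.univ.image j))
  let e : ∀ l, i₃ ⟶ j l := fun l => (hi₃ (by simp)).some
  let e₀ : i₃ ⟶ i₀ := (hi₃ (by simp)).some
  obtain ⟨i₄, f₄, hf₄⟩ : ∃ (i₄ : J) (f₄ : i₄ ⟶ i₃), ∀ l, f₄ ≫ e l ≫ φ l = f₄ ≫ e₀ := by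
    have key : ∀ T : Finset (Fin n), ∃ (i₄ : J) (f₄ : i₄ ⟶ i₃),
        ∀ l ∈ T, f₄ ≫ e l ≫ φ l = f₄ ≫ e₀ := by
      intro T
      induction T using Finset.induction with
      | empty => exact ⟨i₃, 𝟙 _, by simp⟩
      | insert l T _ ih =>
        obtain ⟨i₄, f₄, h⟩ := ih
        obtain ⟨i₅, f₅, h₅⟩ : ∃ (i₅ : J) (f₅ : i₅ ⟶ i₄), f₅ ≫ f₄ ≫ e l ≫ φ l = f₅ ≫ f₄ ≫ e₀ :=
          ⟨_, _, IsCofiltered.eq_condition (f₄ ≫ e l ≫ φ l) (f₄ ≫ e₀)⟩
        refine ⟨i₅, f₅ ≫ f₄, fun m hm => ?_⟩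
        rcases Finset.mem_insert.1 hm with rfl | hm
        · simp only [Category.assoc]; exact h₅
        · simp only [Category.assoc, h m hm]
    obtain ⟨i₄, f₄, h⟩ := key Finset.univ
    exact ⟨i₄, f₄, fun l => h l (Finset.mem_univ l)⟩
  let g₄ : Fin n → Γ(D.obj i₄, ⊤) := fun l => (D.map (f₄ ≫ e₀)).appTop (g₀ l)
  have hg₄ : ∀ l, (c.π.app i₄).appTop (g₄ l) = s l := fun l => by
    show ((D.map (f₄ ≫ e₀)).appTop ≫ (c.π.app i₄).appTop) (g₀ l) = s l
    rw [← Scheme.Hom.comp_appTop, c.w]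
    exact hg₀ l
  have haff : ∀ l, IsAffineOpen ((D.obj i₄).basicOpen (g₄ l)) := fun l => by
    have : (D.obj i₄).basicOpen (g₄ l) = D.map (f₄ ≫ e l) ⁻¹ᵁ D.map (φ l) ⁻¹ᵁ D.map (b l) ⁻¹ᵁ V l := by
      rw [← Scheme.preimage_basicOpen_top, ← hf₄ l, ← hφ l, ← Scheme.Hom.comp_preimage,
        ← D.map_comp, Category.assoc]
    rw [this]
    exact (((hV l).preimage _).preimage _).preimage _
  obtain ⟨i₅, f₅, h₅⟩ := exists_map_eq_top D c hc (⨆ l, (D.obj i₄).basicOpen (g₄ l)) (by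
    rw [Scheme.Hom.preimage_iSup]
    simp_rw [Scheme.preimage_basicOpen_top, hg₄]
    exact hcov)
  refine ⟨i₅, fun l => (D.map f₅).appTop (g₄ l), fun l => ?_, fun l => ?_, ?_⟩
  · show ((D.map f₅).appTop ≫ (c.π.app i₅).appTop) (g₄ l) = s l
    rw [← Scheme.Hom.comp_appTop, c.w]
    exact hg₄ l
  · rw [← Scheme.preimage_basicOpen_top]
    exact (haff l).preimage _
  · simp_rw [← Scheme.preimage_basicOpen_top]
    rw [← Scheme.Hom.preimage_iSup, h₅]

include hc in
/-- An open of an affine scheme which is a limit is, at a stage, an open of an affine scheme of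
finite presentation. -/
theorem exists_openExtension_affine [∀ {i j} (φ : i ⟶ j), IsAffineHom (D.map φ)]
    [∀ i, CompactSpace (D.obj i)] [∀ i, QuasiSeparatedSpace (D.obj i)]
    (t : ∀ i, D.obj i ⟶ Spec R) (hlfp : ∀ i, LocallyOfFinitePresentation (t i))
    {V : Scheme.{u}} [IsAffine V] (v : V ⟶ Spec R) (ι : c.pt ⟶ V) [IsOpenImmersion ι]
    (hι : ∀ i, ι ≫ v = c.π.app i ≫ t i) :
    ∃ (i : J) (P : CommRingCat.{u}) (p : R ⟶ P) (ι₀ : D.obj i ⟶ Spec P) (q : V ⟶ Spec P),
      p.hom.FinitePresentation ∧ IsOpenImmersion ι₀ ∧ ι₀ ≫ Spec.map p = t i ∧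
      q ≫ Spec.map p = v ∧ IsPullback (c.π.app i) ι ι₀ q := by
  classical
  have : CompactSpace c.pt := Scheme.compactSpace_of_isLimit _ _ hc
  have : QuasiSeparatedSpace c.pt := quasiSeparatedSpace_of_quasiSeparated ι
  -- basic opens with union the image
  obtain ⟨T, hT, hTU⟩ := isCompact_and_isOpen_iff_finite_and_eq_biUnion_basicOpen.1
    (⟨isCompact_range ι.continuous, ι.isOpenEmbedding.isOpen_range⟩ :
      IsCompact (Set.range ι) ∧ IsOpen (Set.range ι))
  obtain ⟨n, f, hf⟩ : ∃ (n : ℕ) (f : Fin n → Γ(V, ⊤)), ⨆ l, V.basicOpen (f l) = ι.opensRange := by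
    refine ⟨hT.toFinset.card, fun l => (hT.toFinset.equivFin.symm l).1, ?_⟩
    apply Opens.ext
    rw [Opens.coe_iSup]
    show _ = Set.range ι
    rw [hTU]
    ext x
    simp only [Set.mem_iUnion]
    constructor
    · rintro ⟨l, hl⟩
      exact ⟨_, hT.mem_toFinset.1 (hT.toFinset.equivFin.symm l).2, hl⟩
    · rintro ⟨a, ha, hx⟩
      exact ⟨hT.toFinset.equivFin ⟨a, hT.mem_toFinset.2 ha⟩, by rwa [Equiv.symm_apply_apply]⟩
  have hle : ∀ l, V.basicOpen (f l) ≤ ι.opensRange := fun l => hf ▸ le_iSup (fun k => V.basicOpen (f k)) l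
  -- the stage
  obtain ⟨i, g, hg, hga, hgc⟩ := exists_stage_affine_cover D c hc (fun l => ι.appTop (f l))
    (fun l => by
      rw [← Scheme.preimage_basicOpen_top]
      exact ((isAffineOpen_top V).basicOpen _).preimage_of_isOpenImmersion ι (hle l))
    (by
      simp_rw [← Scheme.preimage_basicOpen_top]
      rw [← Scheme.Hom.preimage_iSup, hf]
      exact Scheme.Hom.preimage_opensRange ι)
  -- the algebras
  let ρV : R ⟶ Γ(V, ⊤) := (Scheme.ΓSpecIso R).inv ≫ v.appTop
  let ρX : R ⟶ Γ(D.obj i, ⊤) := (Scheme.ΓSpecIso R).inv ≫ (t i).appTop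
  let ρL : R ⟶ Γ(c.pt, ⊤) := ρV ≫ ι.appTop
  letI := ρV.hom.toAlgebra
  letI := ρX.hom.toAlgebra
  letI := ρL.hom.toAlgebra
  have hρ : ρX ≫ (c.π.app i).appTop = ρL := by
    simp only [ρX, ρL, ρV, Category.assoc, ← Scheme.Hom.comp_appTop, hι i]
  let α : Γ(V, ⊤) →ₐ[R] Γ(c.pt, ⊤) := { ι.appTop.hom with commutes' := fun r => rfl }
  let β : Γ(D.obj i, ⊤) →ₐ[R] Γ(c.pt, ⊤) :=
    { (c.π.app i).appTop.hom with commutes' := fun r => congrArg (fun h => h.hom r) hρ }
  have hfp : ∀ l, Algebra.FinitePresentation R (Localization.Away (g l)) := by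
    intro l
    let B := Γ(D.obj i, (D.obj i).basicOpen (g l))
    have : IsLocalization.Away (g l) B := isLocalization_basicOpen_of_qcqs
      (U := (⊤ : (D.obj i).Opens)) isCompact_univ isQuasiSeparated_univ (g l)
    let res := (D.obj i).presheaf.map (homOfLE ((D.obj i).basicOpen_le (g l))).op
    letI : Algebra R B := (ρX ≫ res).hom.toAlgebra
    have : IsScalarTower R Γ(D.obj i, ⊤) B := IsScalarTower.of_algebraMap_eq fun _ => rfl
    have hB : (ρX ≫ res).hom.FinitePresentation := by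
      have h := (t i).finitePresentation_appLE (isAffineOpen_top (Spec R)) (hga l) le_top
      have e : ρX ≫ res = (Scheme.ΓSpecIso R).inv ≫
          (t i).appLE ⊤ ((D.obj i).basicOpen (g l)) le_top := by
        simp only [ρX, res, Category.assoc, Scheme.Hom.appLE]
      rw [e, CommRingCat.hom_comp]
      exact h.comp (RingHom.FinitePresentation.of_bijective
        (ConcreteCategory.bijective_of_isIso (Scheme.ΓSpecIso R).inv))
    have : Algebra.FinitePresentation R B := hB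
    exact Algebra.FinitePresentation.equiv
      ((IsLocalization.algEquiv (Submonoid.powers (g l)) B
        (Localization.Away (g l))).restrictScalars R)
  have hloc : ∀ l, IsLocalization.Away (f l) Γ(V, V.basicOpen (f l)) := fun l =>
    (isAffineOpen_top V).isLocalization_basicOpen (f l)
  have hiso : ∀ l, IsIso (ι.app (V.basicOpen (f l))) := fun l => ι.isIso_app _ (hle l)
  have hnat : ∀ l (a : Γ(V, ⊤)),
      ι.app (V.basicOpen (f l)) (V.presheaf.map (homOfLE le_top).op a) =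
        c.pt.presheaf.map (homOfLE le_top).op (ι.appTop a) := fun l a =>
    congrArg (fun h => h.hom a) (ι.naturality (homOfLE (le_top : V.basicOpen (f l) ≤ ⊤)).op)
  have hinj : ∀ l (a : Γ(V, ⊤)) (m : ℕ), α (f l) ^ m * α a = 0 → ∃ k : ℕ, f l ^ k * a = 0 := by
    intro l a m hm
    rw [← map_pow, ← map_mul] at hm
    have h0 : V.presheaf.map (homOfLE le_top).op (f l ^ m * a) =
        (0 : Γ(V, V.basicOpen (f l))) := by
      have := hiso l
      apply (ConcreteCategory.bijective_of_isIso (ι.app (V.basicOpen (f l)))).1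
      rw [hnat, show ι.appTop (f l ^ m * a) = 0 from hm, map_zero, map_zero]
    have := hloc l
    obtain ⟨⟨_, k, rfl⟩, hk⟩ := (IsLocalization.eq_iff_exists (Submonoid.powers (f l))
      Γ(V, V.basicOpen (f l))).1 (show algebraMap Γ(V, ⊤) _ (f l ^ m * a) = algebraMap _ _ 0 by
        rw [map_zero]; exact h0)
    exact ⟨k + m, by rw [pow_add, mul_assoc]; simpa using hk⟩
  have hsurj : ∀ l (y : Γ(c.pt, ⊤)), ∃ (N : ℕ) (a : Γ(V, ⊤)), α a = α (f l) ^ N * y := by
    intro l y
    have := hiso l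
    have := hloc l
    obtain ⟨x, hx⟩ := (ConcreteCategory.bijective_of_isIso (ι.app (V.basicOpen (f l)))).2
      (c.pt.presheaf.map (homOfLE le_top).op y)
    obtain ⟨N, a, ha⟩ := IsLocalization.Away.surj (f l) x
    have h₁ : c.pt.presheaf.map (homOfLE (le_top : ι ⁻¹ᵁ V.basicOpen (f l) ≤ ⊤)).op
        (α a - α (f l) ^ N * y) = 0 := by
      rw [map_sub, map_mul, map_pow, sub_eq_zero]
      show c.pt.presheaf.map _ (ι.appTop a) = c.pt.presheaf.map _ (ι.appTop (f l)) ^ N * _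
      rw [← hnat, ← hnat, ← hx, ← map_pow, ← map_mul, mul_comm]
      exact congrArg _ ha.symm
    have e : c.pt.basicOpen (ι.appTop (f l)) = ι ⁻¹ᵁ V.basicOpen (f l) :=
      (Scheme.preimage_basicOpen_top ι (f l)).symm
    obtain ⟨m, hm⟩ := exists_pow_mul_eq_zero_of_res_basicOpen_eq_zero_of_isCompact c.pt
      (U := ⊤) isCompact_univ (α a - α (f l) ^ N * y) (ι.appTop (f l)) (by
        refine Eq.trans ?_ ((congrArg (c.pt.presheaf.map (eqToHom e).op) h₁).trans (map_zero _))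
        rw [← ConcreteCategory.comp_apply, ← Functor.map_comp]
        rfl)
    refine ⟨N + m, f l ^ m * a, ?_⟩
    rw [mul_sub, sub_eq_zero] at hm
    rw [map_mul, map_pow, pow_add, mul_right_comm]
    calc α (f l) ^ m * α a = ι.appTop (f l) ^ m * (α (f l) ^ N * y) := hm
      _ = _ := by show α (f l) ^ m * _ = _; ring
  obtain ⟨P, _, _, φ, ψ, F, hP, hφ, hψ, hcomp, hPi, hPs⟩ :=
    exists_extension_ring α β f g (fun l => (hg l).symm) hfp hinj hsurj
  let φc : CommRingCat.of P ⟶ Γ(D.obj i, ⊤) := CommRingCat.ofHom φ.toRingHom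
  let ψc : CommRingCat.of P ⟶ Γ(V, ⊤) := CommRingCat.ofHom ψ.toRingHom
  let p : R ⟶ CommRingCat.of P := CommRingCat.ofHom (algebraMap R P)
  have hpφ : p ≫ φc = ρX := CommRingCat.hom_ext (RingHom.ext fun r => φ.commutes r)
  have hpψ : p ≫ ψc = ρV := CommRingCat.hom_ext (RingHom.ext fun r => ψ.commutes r)
  let ι₀ : D.obj i ⟶ Spec (CommRingCat.of P) := (D.obj i).toSpecΓ ≫ Spec.map φc
  let q : V ⟶ Spec (CommRingCat.of P) := V.toSpecΓ ≫ Spec.map ψc
  -- the chart
  have hφ' : ∀ l, φc (F l) = g l := hφ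
  have hloc' : ∀ l, IsLocalization.Away (φc (F l))
      Γ(D.obj i, (D.obj i).basicOpen (φc (F l))) := fun l =>
    isLocalization_basicOpen_of_qcqs (U := (⊤ : (D.obj i).Opens)) isCompact_univ
      isQuasiSeparated_univ _
  have hFi : ∀ l (z : CommRingCat.of P), (D.obj i).presheaf.map
      (homOfLE ((D.obj i).basicOpen_le (φc (F l)))).op (φc z) = 0 → ∃ k : ℕ, F l ^ k * z = 0 := by
    intro l z hz
    have := hloc' l
    obtain ⟨⟨_, k, rfl⟩, hk⟩ := (IsLocalization.eq_iff_exists (Submonoid.powers (φc (F l)))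
      Γ(D.obj i, (D.obj i).basicOpen (φc (F l)))).1 (show algebraMap Γ(D.obj i, ⊤) _ (φc z) =
        algebraMap _ _ 0 by rw [map_zero]; exact hz)
    refine hPi l z k ?_
    rw [← hφ' l]
    show φc (F l) ^ k * φc z = 0
    simpa using hk
  have hFs : ∀ l (x : Γ(D.obj i, (D.obj i).basicOpen (φc (F l)))), ∃ (z : CommRingCat.of P) (k : ℕ),
      (D.obj i).presheaf.map (homOfLE ((D.obj i).basicOpen_le (φc (F l)))).op (φc z) =
        x * (D.obj i).presheaf.map (homOfLE ((D.obj i).basicOpen_le (φc (F l)))).op (φc (F l)) ^ k := by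
    intro l x
    have := hloc' l
    obtain ⟨M₀, y, hy⟩ := IsLocalization.Away.surj (φc (F l)) x
    obtain ⟨z, N, M, hz⟩ := hPs l y
    rw [← hφ' l] at hz
    refine ⟨z, M₀ + N, ?_⟩
    have h := congrArg (algebraMap Γ(D.obj i, ⊤)
      Γ(D.obj i, (D.obj i).basicOpen (φc (F l)))) hz
    simp only [map_mul, map_pow] at h
    have h' := ((IsLocalization.Away.algebraMap_isUnit (φc (F l))).pow M).mul_left_cancel h
    rw [← hy] at h'
    refine h'.trans ?_
    show _ = x * algebraMap Γ(D.obj i, ⊤) _ (φc (F l)) ^ (M₀ + N)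
    ring
  obtain ⟨hchart, hrange⟩ := Groth.Limits.isOpenImmersion_chartMap (X := D.obj i) (O := ⊤) φc F
    (fun l => by rw [hφ']; exact hga l) (by simp_rw [hφ']; exact hgc.ge) hFi hFs
  have hc₀ : Groth.Limits.chartMap (⊤ : (D.obj i).Opens) φc = (D.obj i).topIso.hom ≫ ι₀ := by
    rw [Groth.Limits.chartMap, Scheme.Opens.toSpecΓ_top, Category.assoc]
    rfl
  rw [hc₀] at hchart hrange
  have hι₀ : IsOpenImmersion ι₀ :=
    (MorphismProperty.cancel_left_of_respectsIso @IsOpenImmersion (D.obj i).topIso.hom ι₀).1 hchart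
  have hrange' : Set.range ι₀ =
      ⋃ l, (PrimeSpectrum.basicOpen (F l) : Set (PrimeSpectrum (CommRingCat.of P))) := by
    rw [← hrange]
    exact ((D.obj i).topIso.hom.surjective.range_comp ι₀).symm
  refine ⟨i, CommRingCat.of P, p, ι₀, q, RingHom.finitePresentation_algebraMap.2 hP, hι₀, ?_, ?_, ?_⟩
  · simp only [ι₀, Category.assoc, ← Spec.map_comp, hpφ, ρX]
    rw [Spec.map_comp, ← Category.assoc, ← Scheme.toSpecΓ_naturality, Category.assoc,
      toSpecΓ_SpecMap_ΓSpecIso_inv, Category.comp_id]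
  · simp only [q, Category.assoc, ← Spec.map_comp, hpψ, ρV]
    rw [Spec.map_comp, ← Category.assoc, ← Scheme.toSpecΓ_naturality, Category.assoc,
      toSpecΓ_SpecMap_ΓSpecIso_inv, Category.comp_id]
  · refine IsOpenImmersion.isPullback _ _ _ _ ?_ ?_
    · simp only [ι₀, q]
      rw [← Category.assoc, Scheme.toSpecΓ_naturality, ← Category.assoc (c.π.app i),
        Scheme.toSpecΓ_naturality, Category.assoc, Category.assoc, ← Spec.map_comp, ← Spec.map_comp]
      exact congrArg (fun h => c.pt.toSpecΓ ≫ Spec.map h)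
        (CommRingCat.hom_ext (RingHom.ext fun z => hcomp z))
    · rw [← hf]
      ext x
      simp only [Opens.coe_iSup, Set.mem_iUnion]
      show q x ∈ Set.range ι₀ ↔ _
      rw [hrange']
      simp only [Set.mem_iUnion]
      refine exists_congr fun l => ?_
      have e : q ⁻¹ᵁ PrimeSpectrum.basicOpen (F l) = V.basicOpen (f l) := by
        rw [show f l = ψc (F l) from (hψ l).symm, ← Scheme.toSpecΓ_preimage_basicOpen]
        rfl
      rw [← e]
      rfl

end

end Groth.AlgSp2.Absolute
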