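import Mathlib.RingTheory.FinitePresentation
import Mathlib.RingTheory.Localization.Away.AdjoinRoot
import Mathlib.RingTheory.Localization.Ideal
import Mathlib.RingTheory.Localization.InvSubmonoid

/-!
# The ring of an affine extension of an open

Given `A → Γ` and `B → Γ` with distinguished elements over each other, such that the localizations
of `B` are finitely presented and those of `A` and `Γ` agree, there is a finitely presented algebra
mapping to both with the same localizations as `B`.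
-/

set_option autoImplicit false
universe u

namespace Groth.AlgSp2.Absolute

variable {R A B C : Type u} [CommRing R] [CommRing A] [CommRing B] [CommRing C] [Algebra R A]
  [Algebra R B] [Algebra R C] {n : ℕ}

set_option maxHeartbeats 800000 in
/-- The ring of the extension. -/
theorem exists_extension_ring (α : A →ₐ[R] C) (β : B →ₐ[R] C) (f : Fin n → A) (g : Fin n → B)
    (hfg : ∀ l, α (f l) = β (g l))
    (hfp : ∀ l, Algebra.FinitePresentation R (Localization.Away (g l)))
    (hinj : ∀ l (a : A) (m : ℕ), α (f l) ^ m * α a = 0 → ∃ k : ℕ, f l ^ k * a = 0)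
    (hsurj : ∀ l (y : C), ∃ (N : ℕ) (a : A), α a = α (f l) ^ N * y) :
    ∃ (P : Type u) (_ : CommRing P) (_ : Algebra R P) (φ : P →ₐ[R] B) (ψ : P →ₐ[R] A)
      (F : Fin n → P), Algebra.FinitePresentation R P ∧ (∀ l, φ (F l) = g l) ∧
      (∀ l, ψ (F l) = f l) ∧ (∀ p, α (ψ p) = β (φ p)) ∧
      (∀ l (z : P) (m : ℕ), g l ^ m * φ z = 0 → ∃ k : ℕ, F l ^ k * z = 0) ∧
      (∀ l (y : B), ∃ (z : P) (N M : ℕ), g l ^ M * φ z = g l ^ M * (g l ^ N * y)) := by
  classical
  -- generators of the localizations with partners in `A`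
  have hgen : ∀ l, ∃ (σ : Type u) (_ : Finite σ) (b : σ → B) (a : σ → A), (∀ k, α (a k) = β (b k)) ∧
      Algebra.adjoin R (insert (IsLocalization.Away.invSelf (g l))
        (Set.range fun k => algebraMap B (Localization.Away (g l)) (b k))) = ⊤ := by
    intro l
    have := hfp l
    obtain ⟨s, hs⟩ := (inferInstance : Algebra.FiniteType R (Localization.Away (g l))).out
    choose y m hy using fun x : (s : Set (Localization.Away (g l))) =>
      IsLocalization.Away.surj (g l) x.1
    choose N a ha using fun x : (s : Set (Localization.Away (g l))) => hsurj l (β (m x))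
    refine ⟨(s : Set (Localization.Away (g l))), inferInstance, fun x => g l ^ N x * m x, a,
      fun x => by rw [ha, hfg, map_mul, map_pow], eq_top_iff.2 ?_⟩
    rw [← hs, Algebra.adjoin_le_iff]
    intro x hx
    let T := Algebra.adjoin R (insert (IsLocalization.Away.invSelf (g l))
      (Set.range fun k : (s : Set (Localization.Away (g l))) =>
        algebraMap B (Localization.Away (g l)) (g l ^ N k * m k)))
    have h₁ : algebraMap B (Localization.Away (g l)) (g l ^ N ⟨x, hx⟩ * m ⟨x, hx⟩) ∈ T :=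
      Algebra.subset_adjoin (Or.inr ⟨⟨x, hx⟩, rfl⟩)
    have h₂ : IsLocalization.Away.invSelf (g l) ∈ T := Algebra.subset_adjoin (Or.inl rfl)
    have hu : algebraMap B (Localization.Away (g l)) (g l) *
        IsLocalization.Away.invSelf (g l) = 1 := IsLocalization.Away.mul_invSelf _
    have := T.mul_mem h₁ (T.pow_mem h₂ (N ⟨x, hx⟩ + y ⟨x, hx⟩))
    show x ∈ T
    have e : algebraMap B (Localization.Away (g l)) (g l ^ N ⟨x, hx⟩ * m ⟨x, hx⟩) *
        IsLocalization.Away.invSelf (g l) ^ (N ⟨x, hx⟩ + y ⟨x, hx⟩) =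
        x * (algebraMap B (Localization.Away (g l)) (g l) *
          IsLocalization.Away.invSelf (g l)) ^ (N ⟨x, hx⟩ + y ⟨x, hx⟩) := by
      rw [map_mul, map_pow, ← hy ⟨x, hx⟩]
      ring
    rw [hu, one_pow, mul_one] at e
    exact e ▸ this
  choose σ hσ b a hab hgen using hgen
  let P₀ := MvPolynomial (Fin n ⊕ Σ l, σ l) R
  let φ₀ : P₀ →ₐ[R] B := MvPolynomial.aeval (Sum.elim g fun k => b k.1 k.2)
  let ψ₀ : P₀ →ₐ[R] A := MvPolynomial.aeval (Sum.elim f fun k => a k.1 k.2)
  let F₀ : Fin n → P₀ := fun l => MvPolynomial.X (Sum.inl l)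
  have hφF : ∀ l, φ₀ (F₀ l) = g l := fun l => (MvPolynomial.aeval_X _ _).trans rfl
  have hψF : ∀ l, ψ₀ (F₀ l) = f l := fun l => (MvPolynomial.aeval_X _ _).trans rfl
  have hφY : ∀ (l : Fin n) (k : σ l), φ₀ (MvPolynomial.X (Sum.inr ⟨l, k⟩)) = b l k := fun l k =>
    (MvPolynomial.aeval_X _ _).trans rfl
  have hagree : α.comp ψ₀ = β.comp φ₀ := by
    refine MvPolynomial.algHom_ext fun i => ?_
    rcases i with l | k
    · simp [φ₀, ψ₀, hfg]
    · simp [φ₀, ψ₀, hab]
  have hfin : ∀ l, ∃ G : Finset P₀, (∀ q ∈ G, φ₀ q = 0 ∧ ψ₀ q = 0) ∧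
      ∀ (p : P₀) (m : ℕ), g l ^ m * φ₀ p = 0 → ∃ k : ℕ, F₀ l ^ k * p ∈ Ideal.span (G : Set P₀) := by
    intro l
    have := hfp l
    let P₁ := Localization.Away (F₀ l)
    have hP₁ : Algebra.FinitePresentation R P₁ :=
      have : Algebra.FinitePresentation P₀ P₁ := IsLocalization.Away.finitePresentation (F₀ l)
      Algebra.FinitePresentation.trans R P₀ P₁
    let Φ₀ : P₀ →ₐ[R] Localization.Away (g l) :=
      (IsScalarTower.toAlgHom R B (Localization.Away (g l))).comp φ₀
    let Φ : P₁ →ₐ[R] Localization.Away (g l) :=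
      IsLocalization.liftAlgHom (M := Submonoid.powers (F₀ l)) (f := Φ₀) (by
        rintro ⟨_, k, rfl⟩
        simp only [Φ₀, map_pow, AlgHom.comp_apply, IsScalarTower.coe_toAlgHom', hφF]
        exact IsUnit.pow k (IsLocalization.Away.algebraMap_isUnit (g l)))
    have hΦ : ∀ p : P₀, Φ (algebraMap P₀ P₁ p) = algebraMap B _ (φ₀ p) := fun p =>
      (IsLocalization.lift_eq _ p).trans rfl
    have hΦs : Function.Surjective Φ := by
      rw [← AlgHom.range_eq_top, eq_top_iff, ← hgen l, Algebra.adjoin_le_iff]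
      rintro x (rfl | ⟨k, rfl⟩)
      · refine ⟨IsLocalization.Away.invSelf (F₀ l), ?_⟩
        have e : algebraMap P₀ P₁ (F₀ l) * IsLocalization.Away.invSelf (F₀ l) = 1 :=
          IsLocalization.Away.mul_invSelf _
        have e' := congrArg Φ e
        rw [map_mul, map_one, hΦ, hφF] at e'
        exact ((IsLocalization.Away.algebraMap_isUnit (g l)).mul_right_cancel (by
          rw [mul_comm _ (algebraMap B (Localization.Away (g l)) (g l)), mul_comm _
            (algebraMap B (Localization.Away (g l)) (g l)), IsLocalization.Away.mul_invSelf]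
          exact e'))
      · exact ⟨algebraMap P₀ P₁ (MvPolynomial.X (Sum.inr ⟨l, k⟩)),
          (hΦ _).trans (congrArg _ (hφY l k))⟩
    obtain ⟨K, hK⟩ := Algebra.FinitePresentation.ker_fG_of_surjective Φ hΦs
    choose e q hq using fun x : (K : Set P₁) => IsLocalization.Away.surj (F₀ l) x.1
    have hz : ∀ x : (K : Set P₁), ∃ k : ℕ, φ₀ (F₀ l ^ k * q x) = 0 ∧ ψ₀ (F₀ l ^ k * q x) = 0 := by
      intro x
      have hx : Φ x.1 = 0 := by
        have : x.1 ∈ RingHom.ker Φ.toRingHom := by rw [← hK]; exact Ideal.subset_span x.2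
        exact this
      have h₀ : algebraMap B (Localization.Away (g l)) (φ₀ (q x)) =
          algebraMap B (Localization.Away (g l)) 0 := by
        rw [map_zero, ← hΦ, ← hq, map_mul, hx, zero_mul]
      obtain ⟨⟨_, m, rfl⟩, hm⟩ := (IsLocalization.eq_iff_exists (Submonoid.powers (g l)) _).1 h₀
      simp only [mul_zero] at hm
      obtain ⟨k, hk⟩ := hinj l (ψ₀ (q x)) m (by
        rw [hfg, show α (ψ₀ (q x)) = β (φ₀ (q x)) from AlgHom.congr_fun hagree _, ← map_pow,
          ← map_mul, hm, map_zero])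
      exact ⟨m + k, by rw [map_mul, map_pow, hφF, pow_add, mul_right_comm, hm, zero_mul],
        by rw [map_mul, map_pow, hψF, pow_add, mul_assoc, hk, mul_zero]⟩
    choose k hkφ hkψ using hz
    refine ⟨Finset.univ.image fun x : (K : Set P₁) => F₀ l ^ k x * q x, ?_, ?_⟩
    · intro z hz
      obtain ⟨x, -, rfl⟩ := Finset.mem_image.1 hz
      exact ⟨hkφ x, hkψ x⟩
    intro p m hp
    let I : Ideal P₀ := Ideal.span
      ((Finset.univ.image fun x : (K : Set P₁) => F₀ l ^ k x * q x : Finset P₀) : Set P₀)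
    have hu : IsUnit (algebraMap P₀ P₁ (F₀ l)) := IsLocalization.Away.algebraMap_isUnit _
    have hp' : algebraMap P₀ P₁ p ∈ RingHom.ker Φ.toRingHom := by
      show Φ _ = 0
      rw [hΦ]
      refine ((IsLocalization.Away.algebraMap_isUnit (g l)).pow m).mul_right_eq_zero.1 ?_
      rw [← map_pow, ← map_mul, hp, map_zero]
    have hle : RingHom.ker Φ.toRingHom ≤ I.map (algebraMap P₀ P₁) := by
      rw [← hK, Ideal.span_le]
      intro x hx
      have h : algebraMap P₀ P₁ (F₀ l ^ k ⟨x, hx⟩ * q ⟨x, hx⟩) ∈ I.map (algebraMap P₀ P₁) :=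
        Ideal.mem_map_of_mem _ (Ideal.subset_span
          (Finset.mem_image_of_mem (fun y : (K : Set P₁) => F₀ l ^ k y * q y) (Finset.mem_univ _)))
      rw [map_mul, map_pow, ← hq, mul_left_comm, ← pow_add] at h
      obtain ⟨c, hc⟩ := hu.pow (k ⟨x, hx⟩ + e ⟨x, hx⟩)
      have := Ideal.mul_mem_right ((↑c⁻¹ : P₁)) _ h
      rwa [mul_assoc, ← hc, Units.mul_inv, mul_one] at this
    obtain ⟨⟨⟨w, hw⟩, ⟨_, j, rfl⟩⟩, hwj⟩ :=
      (IsLocalization.mem_map_algebraMap_iff (Submonoid.powers (F₀ l)) P₁).1 (hle hp')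
    rw [← map_mul] at hwj
    obtain ⟨⟨_, i, rfl⟩, hi⟩ := (IsLocalization.eq_iff_exists (Submonoid.powers (F₀ l)) _).1 hwj
    refine ⟨i + j, ?_⟩
    have : F₀ l ^ (i + j) * p = F₀ l ^ i * w := by
      rw [← hi]; simp only [pow_add]; ring
    rw [this]
    exact I.mul_mem_left _ hw
  choose G hG hGk using hfin
  let I : Ideal P₀ := Ideal.span ((Finset.univ.biUnion G : Finset P₀) : Set P₀)
  have hIker : ∀ z ∈ I, φ₀ z = 0 ∧ ψ₀ z = 0 := fun z hz => by
    have : I ≤ RingHom.ker φ₀.toRingHom ⊓ RingHom.ker ψ₀.toRingHom := Ideal.span_le.2 fun q hq => by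
      obtain ⟨l, -, hl⟩ := Finset.mem_biUnion.1 hq
      exact ⟨(hG l q hl).1, (hG l q hl).2⟩
    exact this hz
  refine ⟨P₀ ⧸ I, inferInstance, inferInstance, Ideal.Quotient.liftₐ I φ₀ fun z hz => (hIker z hz).1,
    Ideal.Quotient.liftₐ I ψ₀ fun z hz => (hIker z hz).2, fun l => Ideal.Quotient.mk I (F₀ l),
    Algebra.FinitePresentation.quotient ⟨_, rfl⟩, hφF, hψF, ?_, ?_, ?_⟩
  · intro p
    obtain ⟨p, rfl⟩ := Ideal.Quotient.mk_surjective p
    exact AlgHom.congr_fun hagree p
  · intro l z m hz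
    obtain ⟨p, rfl⟩ := Ideal.Quotient.mk_surjective z
    obtain ⟨k, hk⟩ := hGk l p m hz
    refine ⟨k, ?_⟩
    rw [← map_pow, ← map_mul, Ideal.Quotient.eq_zero_iff_mem]
    refine Ideal.span_mono ?_ hk
    exact_mod_cast Finset.subset_biUnion_of_mem G (Finset.mem_univ l)
  · intro l y
    have := hfp l
    let T : Subalgebra R (Localization.Away (g l)) :=
      Algebra.adjoin R (insert (IsLocalization.Away.invSelf (g l))
        (Set.range fun k => algebraMap B (Localization.Away (g l)) (b l k)))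
    have hy : algebraMap B (Localization.Away (g l)) y ∈ T := by rw [show T = ⊤ from hgen l]; trivial
    have key : ∀ x ∈ T, ∃ (p : P₀) (N : ℕ),
        x * algebraMap B (Localization.Away (g l)) (g l) ^ N = algebraMap B _ (φ₀ p) := by
      intro x hx
      refine Algebra.adjoin_induction ?_ ?_ ?_ ?_ hx
      · rintro x (rfl | ⟨k, rfl⟩)
        · exact ⟨1, 1, by rw [pow_one, mul_comm, IsLocalization.Away.mul_invSelf, map_one, map_one]⟩
        · exact ⟨MvPolynomial.X (Sum.inr ⟨l, k⟩), 0, by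
            rw [pow_zero, mul_one, hφY]⟩
      · intro r
        exact ⟨algebraMap R P₀ r, 0, by
          rw [pow_zero, mul_one, AlgHom.commutes, ← IsScalarTower.algebraMap_apply]⟩
      · rintro x x' - - ⟨p, N, h⟩ ⟨p', N', h'⟩
        refine ⟨p * F₀ l ^ N' + p' * F₀ l ^ N, N + N', ?_⟩
        simp only [map_add, map_mul, map_pow, hφF, ← h, ← h', pow_add]
        ring
      · rintro x x' - - ⟨p, N, h⟩ ⟨p', N', h'⟩
        refine ⟨p * p', N + N', ?_⟩
        simp only [map_mul, ← h, ← h', pow_add]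
        ring
    obtain ⟨p, N, hp⟩ := key _ hy
    rw [← map_pow, ← map_mul] at hp
    obtain ⟨⟨_, M, rfl⟩, hM⟩ := (IsLocalization.eq_iff_exists (Submonoid.powers (g l)) _).1 hp
    refine ⟨Ideal.Quotient.mk I p, N, M, ?_⟩
    show g l ^ M * φ₀ p = _
    rw [← hM]
    ring

end Groth.AlgSp2.Absolute
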