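import Groth.Agent.AlgSp2.Absolute.ClosedApprox
import Groth.Agent.SpLimit.ProperStage
import Groth.Agent.Limits.ProperApprox

/-!
# Proper morphisms are limits of finitely presented proper ones
-/

set_option autoImplicit false
set_option linter.unusedSectionVars false
set_option backward.isDefEq.respectTransparency false
set_option backward.isDefEq.respectTransparency.types false
universe u

open CategoryTheory CategoryTheory.Limits AlgebraicGeometry TopologicalSpace Opposite AlgSp
open Groth.AlgSpBasic Groth.AlgSp2 Groth.AlgSp2.Approx Groth.SpLimit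

namespace Groth.AlgSp2.Absolute

noncomputable section

section Scheme

variable {J : Type u} [SmallCategory J] [IsCofiltered J] {D : J ⥤ Scheme.{u}} {c : Cone D}
  (hc : IsLimit c) {T : Scheme.{u}} [CompactSpace T] [QuasiSeparatedSpace T]
  (t : D ⟶ (Functor.const J).obj T)

include hc in
/-- Closed subschemes whose intersection is proper are eventually proper. -/
theorem exists_isProper_app [∀ {i j} (f : i ⟶ j), IsClosedImmersion (D.map f)]
    [∀ i, CompactSpace (D.obj i)] [∀ i, QuasiSeparatedSpace (D.obj i)]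
    (ht : ∀ i, LocallyOfFiniteType (t.app i)) (i₀ : J) [IsProper (c.π.app i₀ ≫ t.app i₀)] :
    ∃ i₁ : J, ∀ (i : J) (_ : i ⟶ i₁), IsProper (t.app i) := by
  obtain ⟨P, p, ι, hp, hpf, hι, hιp⟩ :=
    Groth.Limits.exists_proper_fp_closedImmersion (S := T) (c.π.app i₀ ≫ t.app i₀ : c.pt ⟶ T)
  have := IsCofiltered.isConnected (C := J)
  obtain ⟨k, q, hq, hqp⟩ := Scheme.exists_π_app_comp_eq_of_locallyOfFinitePresentation D t p c hc ι
    (by
      ext j
      show c.π.app j ≫ t.app j = ι ≫ p
      rw [hιp]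
      exact Groth.Limits.π_app_comp_eq t c j i₀)
  let D' := Over.forget k ⋙ D
  let s : D' ⟶ (Functor.const (Over k)).obj P :=
    { app := fun l => D.map l.hom ≫ q
      naturality := fun l m φ => by
        show D.map φ.left ≫ D.map m.hom ≫ q = (D.map l.hom ≫ q) ≫ 𝟙 _
        rw [Category.comp_id, ← Functor.map_comp_assoc, Over.w φ] }
  have hsp : ∀ l : Over k, s.app l ≫ p = t.app l.left := fun l => by
    show (D.map l.hom ≫ q) ≫ p = _
    rw [Category.assoc, hqp]
    exact (t.naturality l.hom).trans (Category.comp_id _)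
  have : CompactSpace P := QuasiCompact.compactSpace_of_compactSpace p
  have : QuasiSeparatedSpace P := quasiSeparatedSpace_of_quasiSeparated p
  have : ∀ l, CompactSpace (D'.obj l) := fun l => inferInstanceAs (CompactSpace (D.obj l.left))
  have : ∀ l, QuasiSeparatedSpace (D'.obj l) := fun l =>
    inferInstanceAs (QuasiSeparatedSpace (D.obj l.left))
  have : ∀ l, QuasiCompact (s.app l) := fun l => quasiCompact_of_compactSpace (Y := P) (s.app l)
  have : ∀ l, QuasiSeparated (s.app l) := fun l =>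
    QuasiSeparated.of_quasiSeparatedSpace (X := D'.obj l) (Y := P) (s.app l)
  have : ∀ l, LocallyOfFiniteType (s.app l) := fun l => by
    have : LocallyOfFiniteType (s.app l ≫ p) := by rw [hsp]; exact ht _
    exact locallyOfFiniteType_of_comp (s.app l) p
  let l₀ : Over k := Over.mk (𝟙 k)
  have : IsClosedImmersion ((c.whisker (Over.forget k)).π.app l₀ ≫ s.app l₀) := by
    show IsClosedImmersion (c.π.app k ≫ D.map (𝟙 k) ≫ q)
    rw [D.map_id, Category.id_comp, hq]
    exact hι
  obtain ⟨l, hl⟩ := Groth.Limits.exists_isClosedImmersion_app (D := D') (t := s)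
    ((Functor.Initial.isLimitWhiskerEquiv (Over.forget k) c).symm hc) l₀
    (fun a b m => inferInstanceAs (IsClosedImmersion (D.map m.left)))
  refine ⟨l.left, fun i φ => ?_⟩
  let m : Over k := Over.mk (φ ≫ l.hom)
  have : IsClosedImmersion (s.app m) := hl m (Over.homMk φ rfl)
  show IsProper (t.app m.left)
  rw [← hsp m]
  exact inferInstanceAs (IsProper ((s.app m : D'.obj m ⟶ P) ≫ p))

end Scheme

variable {S : Scheme.{u}}

/-- A chart of a closed subspace induced by a chart of the ambient space. -/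
theorem exists_chart_cover {Z X₀ Y : Sp S} {u : Z ⟶ X₀} {f₀ : X₀ ⟶ Y} {W₀ T M E : Over S}
    {g : (yon S).obj W₀ ⟶ X₀} {b : (yon S).obj T ⟶ Y} {m₁ : M ⟶ W₀} {m₂ : M ⟶ T}
    (hM : IsPullback ((yon S).map m₁) ((yon S).map m₂) (g ≫ f₀) b)
    {top : (yon S).obj E ⟶ Z} {bot : E ⟶ M}
    (sqE : IsPullback top ((yon S).map bot) u ((yon S).map m₁ ≫ g)) :
    ∃ r : (yon S).obj E ⟶ pullback (u ≫ f₀) b,
      r ≫ pullback.snd (u ≫ f₀) b = (yon S).map (bot ≫ m₂) ∧
      IsPullback ((yon S).map (bot ≫ m₁)) r g (pullback.fst (u ≫ f₀) b ≫ u) := by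
  have sV := IsPullback.of_hasPullback f₀ b
  have sV' := IsPullback.of_hasPullback (u ≫ f₀) b
  let l := sV.lift ((yon S).map m₁ ≫ g) ((yon S).map m₂) (by rw [Category.assoc]; exact hM.w)
  have sA : IsPullback ((yon S).map m₁) l g (pullback.fst f₀ b) :=
    IsPullback.of_bot (by rw [sV.lift_snd]; exact hM) (sV.lift_fst _ _ _).symm sV
  let μ := sV.lift (pullback.fst (u ≫ f₀) b ≫ u) (pullback.snd (u ≫ f₀) b)
    (by rw [Category.assoc]; exact sV'.w)
  have sB : IsPullback (pullback.fst (u ≫ f₀) b) μ u (pullback.fst f₀ b) :=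
    IsPullback.of_bot (by rw [sV.lift_snd]; exact sV') (sV.lift_fst _ _ _).symm sV
  let r := sB.lift top ((yon S).map bot ≫ l) (by
    rw [Category.assoc, sV.lift_fst]; exact sqE.w)
  have sC : IsPullback r ((yon S).map bot) μ l :=
    IsPullback.of_right (by rw [sB.lift_fst, sV.lift_fst]; exact sqE) (sB.lift_snd _ _ _) sB
  refine ⟨r, ?_, ?_⟩
  · rw [show pullback.snd (u ≫ f₀) b = μ ≫ pullback.snd f₀ b from (sV.lift_snd _ _ _).symm,
      reassoc_of% sC.w, sV.lift_snd, Functor.map_comp]
  · have h := sC.flip.paste_horiz sA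
    rwa [sV.lift_fst, ← Functor.map_comp] at h

variable [QuasiSeparatedSpace S]

/-- A proper morphism to a qcqs space is a limit of proper morphisms of finite presentation, with
closed immersions as transition maps and projections. -/
theorem exists_limit_proper {X Y : Sp S} (hX : IsAlgSpace X) (hY : IsAlgSpace Y)
    (hYc : IsQuasiCompactSp Y) (hYs : IsQuasiSeparatedSp Y) {f : X ⟶ Y} (hf : IsProperMor f) :
    ∃ (I : Type u) (_ : Preorder I) (_ : IsDirected I (fun a b => a ≤ b)) (_ : Nonempty I)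
      (D : Iᵒᵖ ⥤ Sp S) (t : D ⟶ (Functor.const Iᵒᵖ).obj Y) (π : (Functor.const Iᵒᵖ).obj X ⟶ D)
      (_ : IsLimit (Cone.mk X π)), (∀ i, IsAlgSpace (D.obj i)) ∧
      (∀ (i j : Iᵒᵖ) (φ : i ⟶ j), RepWith @IsClosedImmersion (D.map φ)) ∧
      (∀ i, RepWith @IsClosedImmersion (π.app i)) ∧
      (∀ i, IsProperMor (t.app i) ∧ IsFinitePresentationMor (t.app i)) ∧
      (∀ i, π.app i ≫ t.app i = f) := by
  classical
  obtain ⟨I, hI, hI', hIne, D, t, π, hc, hD, hDc, hπc, hDq, ht, hπ, i₀, hs⟩ :=
    exists_limit_closed_separated hX hY hYc hYs hf.2.1 hf.1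
  let c : Cone D := Cone.mk X π
  have hDa : ∀ (i j : Iᵒᵖ) (φ : i ⟶ j), IsAffineMor (D.map φ) := fun i j φ =>
    isAffineMor_iff_repWith.2 (repWith_mono (P := @IsClosedImmersion)
      (fun _ _ k (_ : IsClosedImmersion k) => (inferInstance : IsAffineHom k)) (hDc i j φ))
  -- a finite cover of the stage by a scheme
  obtain ⟨U, p, hpe, hps⟩ := (hD i₀).atlas
  obtain ⟨W₀, g, hgf, hgs, hgp, -⟩ :=
    Groth.Agent.S10048.result S ⟨D.obj i₀, hD i₀⟩ (hDq i₀).1 (hDq i₀).2 U p hpe hps
  have hgR : RepWith @IsFinite g := (isFiniteMor_iff (IsAlgSpace.yon_obj W₀) (hD i₀)).1 hgf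
  have hgsep : RepWith @IsSeparated g :=
    repWith_mono (fun _ _ k (_ : IsFinite k) => (inferInstance : IsSeparated k)) hgR
  have : CompactSpace W₀.left := (isQuasiCompactSp_yon_iff W₀).1
    (isQuasiCompactSp_of_qcMor (hD i₀) (hDq i₀).1 hgp.2.1)
  have hgf₀ : IsSeparatedMor (g ≫ t.app i₀) :=
    repWith_diagonal_comp ((repWith_isSeparated_iff hgsep.rep).2 hgsep) (hs i₀ (𝟙 _))
  have hWqs : IsQuasiSeparatedSp ((yon S).obj W₀) := isQuasiSeparatedSp_of_sepMor hgf₀ hYs
  -- an affine chart of the target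
  obtain ⟨T, b, hT, hbe, hbs⟩ := exists_affine_chart hY hYc
  obtain ⟨M, m₁, m₂, hM⟩ := exists_pullback_of_diag hY.diag (g ≫ t.app i₀) b
  have : CompactSpace M.left := compactSpace_pullback_of_qs hYs hM
  have : QuasiSeparated M.hom := quasiSeparated_hom_of_mono
    (isQuasiSeparatedSp_of_isPullback (IsAlgSpace.yon_obj M) hWqs hYs
      (isQuasiSeparatedSp_yon_affine T) hM) (𝟙 _)
  have : QuasiSeparatedSpace M.left := quasiSeparatedSpace_of_quasiSeparated M.hom
  have hgr := representable_of_diag hY.diag (g ≫ t.app i₀)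
  have hm₂ : LocallyOfFiniteType m₂.left :=
    (repWith_of_locP hY hgr (locP_comp (IsAlgSpace.yon_obj W₀) (hD i₀) hY
      (locP_of_repWith (repWith_mono (fun _ _ k (_ : IsFinite k) =>
        (inferInstance : LocallyOfFiniteType k)) hgR))
      (locP_mono (P := @LocallyOfFinitePresentation)
        (fun _ _ k (_ : LocallyOfFinitePresentation k) => (inferInstance : LocallyOfFiniteType k))
        (ht i₀).1))).property _ _ _ hM
  obtain ⟨P⟩ := nonempty_pullSys D hDa hc i₀ ((yon S).map m₁ ≫ g)
  let E := P.E ⋙ Over.forget S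
  let τ : E ⟶ (Functor.const (Over i₀)).obj T.left :=
    { app := fun k => (P.q k ≫ m₂).left
      naturality := fun k l m => by
        show (P.E.map m).left ≫ (P.q l ≫ m₂).left = (P.q k ≫ m₂).left ≫ 𝟙 _
        rw [Category.comp_id, ← Over.comp_left, ← Category.assoc, P.map_q m] }
  have hqc : ∀ k, IsClosedImmersion (P.q k).left := fun k =>
    (hDc _ _ k.hom).property _ _ _ (P.sq k)
  have hmap : ∀ {k l : Over i₀} (m : k ⟶ l), IsClosedImmersion (E.map m) := fun {k l} m => by
    have := hqc k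
    have := hqc l
    have : IsClosedImmersion ((P.E.map m).left ≫ (P.q l).left) := by
      rw [← Over.comp_left, P.map_q m]; infer_instance
    exact IsClosedImmersion.of_comp (P.E.map m).left (P.q l).left
  have : ∀ k, CompactSpace (E.obj k) := fun k =>
    have := hqc k
    QuasiCompact.compactSpace_of_compactSpace (P.q k).left
  have : ∀ k, QuasiSeparatedSpace (E.obj k) := fun k =>
    have := hqc k
    quasiSeparatedSpace_of_quasiSeparated (P.q k).left
  -- the scheme over the limit is proper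
  have hlim : IsProper (P.bot ≫ m₂).left := by
    obtain ⟨r, hr, hr'⟩ := exists_chart_cover (f₀ := t.app i₀) hM P.sqTop
    have e : c.π.app i₀ ≫ t.app i₀ = f := hπ i₀
    have hV : IsAlgSpace (pullback (c.π.app i₀ ≫ t.app i₀) b) :=
      isAlgSpace_pullback ⟨_, hX⟩ ⟨_, IsAlgSpace.yon_obj _⟩ ⟨_, hY⟩ _ _
    have hrP := (isProperMor_iff_repWith (IsAlgSpace.yon_obj _) hV
      (repWith_of_isPullback hr' hgR).rep).2 (repWith_mono (fun _ _ k (_ : IsFinite k) =>
        (inferInstance : IsProper k)) (repWith_of_isPullback hr' hgR))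
    have sqV := IsPullback.of_hasPullback (c.π.app i₀ ≫ t.app i₀) b
    have hrep : Representable ((yon S).map (P.bot ≫ m₂)) :=
      representable_of_diag (IsAlgSpace.yon_obj _).diag _
    have h₁ : IsSeparated (P.bot ≫ m₂).left := (repWith_yon_map_iff _ _).1
      ((repWith_isSeparated_iff hrep).1 (by
        rw [← hr]; exact repWith_diagonal_comp hrP.1 (repWith_diagonal_baseChange sqV (e.symm ▸ hf.1))))
    have h₂ : UniversallyClosed (P.bot ≫ m₂).left := (repWith_yon_map_iff _ _).1
      ((repWith_universallyClosed_iff hrep).2 (by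
        rw [← hr]
        exact isUnivClosedMor_comp hV (IsAlgSpace.yon_obj _) hrP.2.2
          (isUnivClosedMor_of_isPullback sqV (e.symm ▸ hf.2.2))))
    have : IsClosedImmersion P.bot.left :=
      (hπc i₀).property _ _ _ P.sqTop
    have : LocallyOfFiniteType (P.bot ≫ m₂).left := by
      show LocallyOfFiniteType (P.bot.left ≫ m₂.left)
      infer_instance
    exact {}
  have := hlim
  have hp₀ : IsProper (((Over.forget S).mapCone P.L).π.app (Over.mk (𝟙 i₀)) ≫ τ.app (Over.mk (𝟙 i₀))) := by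
    show IsProper ((P.L.π.app _).left ≫ (P.q _ ≫ m₂).left)
    rw [← Over.comp_left, ← Category.assoc, P.π_q]
    exact hlim
  obtain ⟨k₁, hk₁⟩ := exists_isProper_app P.isLimit τ (fun k => by
    have := hqc k
    show LocallyOfFiniteType ((P.q k).left ≫ m₂.left)
    infer_instance) (Over.mk (𝟙 i₀))
  -- the stages are proper
  have key : ∀ k : Over i₀, IsProper (τ.app k) → IsProperMor (t.app k.left) := by
    intro k hk
    have e : D.map k.hom ≫ t.app i₀ = t.app k.left :=
      (t.naturality k.hom).trans (Category.comp_id _)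
    obtain ⟨r, hr, hr'⟩ := exists_chart_cover (f₀ := t.app i₀) hM (P.sq k)
    rw [← e]
    have hsep : IsSeparatedMor (D.map k.hom ≫ t.app i₀) := by rw [e]; exact hs _ k.hom
    have huc : IsUnivClosedMor (D.map k.hom ≫ t.app i₀) := by
      refine isUnivClosedMor_of_cover hY hbe hbs (IsPullback.of_hasPullback _ b) ?_
      have hrs : IsSurjectiveMor r := fun z => by
        obtain ⟨x, hx⟩ := hgs (AlgSp.Points.map
          (pullback.fst (D.map k.hom ≫ t.app i₀) b ≫ D.map k.hom) z)
        obtain ⟨a, -, ha⟩ := Groth.AlgSpBasic.exists_point_of_isPullback hr' x z hx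
        exact ⟨a, ha⟩
      refine isUnivClosedMor_of_surjective (IsAlgSpace.yon_obj _)
        (isAlgSpace_pullback ⟨_, hD _⟩ ⟨_, IsAlgSpace.yon_obj _⟩ ⟨_, hY⟩ _ _) hrs ?_
      rw [hr]
      have : IsProper (P.q k ≫ m₂).left := hk
      exact (repWith_universallyClosed_iff
        (representable_of_diag (IsAlgSpace.yon_obj _).diag _)).1
        ((repWith_yon_map_iff _ _).2 (inferInstance : UniversallyClosed (P.q k ≫ m₂).left))
    refine ⟨hsep, ⟨?_, ?_⟩, huc⟩
    · rw [e]
      exact locP_mono (P := @LocallyOfFinitePresentation)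
        (fun _ _ k (_ : LocallyOfFinitePresentation k) => (inferInstance : LocallyOfFiniteType k))
        (ht k.left).1
    · rw [e]; exact (ht k.left).2.1
  -- restrict to the stages above
  let i₁ : I := k₁.left.unop
  let J := {i : I // i₁ ≤ i}
  have hJd : IsDirected J (fun a b => a ≤ b) := ⟨fun a b => by
    obtain ⟨d, ha, hb⟩ := directed_of (fun x y => x ≤ y) a.1 b.1
    exact ⟨⟨d, a.2.trans ha⟩, ha, hb⟩⟩
  have hJne : Nonempty J := ⟨⟨i₁, le_rfl⟩⟩
  have : IsDirectedOrder J := hJd
  have hmono : Monotone (Subtype.val : J → I) := fun _ _ h => h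
  have : hmono.functor.Final := (Monotone.final_functor_iff _).2 fun i => by
    obtain ⟨d, hd, hd'⟩ := directed_of (fun x y => x ≤ y) i i₁
    exact ⟨⟨d, hd'⟩, hd⟩
  refine ⟨J, inferInstance, hJd, hJne, hmono.functor.op ⋙ D,
    Functor.whiskerLeft hmono.functor.op t, (c.whisker hmono.functor.op).π,
    (Functor.Initial.isLimitWhiskerEquiv hmono.functor.op c).symm hc,
    fun j => hD _, fun a b φ => hDc _ _ _, fun j => hπc _, fun j => ⟨?_, ht _⟩, fun j => hπ _⟩
  let φ : (op j.unop.1 : Iᵒᵖ) ⟶ k₁.left := (homOfLE j.unop.2).op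
  exact key (Over.mk (φ ≫ k₁.hom)) (hk₁ _ (Over.homMk φ rfl))

end

end Groth.AlgSp2.Absolute
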