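import Groth.Agent.AlgSp2.Absolute.AbsApprox
import Groth.Agent.AlgSp2.FiniteMor
import Groth.Agent.AlgSp2.Induction.Principle
import Groth.Agent.SpLimit.SpaceLift
import Groth.Agent.SpLimit.SpaceLiftIff
import Groth.Agent.AlgSpBasic.DecentFiniteFibre
import Groth.Agent.AlgSpBasic.SepLocal
import Groth.Agent.AlgSpBasic.Unramified
import Groth.Agent.SpectralTopology.FpCancel

/-!
# Relative approximation of morphisms of qcqs spaces
-/

set_option autoImplicit false
set_option linter.unusedSectionVars false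
set_option backward.isDefEq.respectTransparency false
set_option backward.isDefEq.respectTransparency.types false
universe u

open CategoryTheory CategoryTheory.Limits AlgebraicGeometry TopologicalSpace Opposite AlgSp
open Groth.AlgSpBasic Groth.AlgSp2 Groth.AlgSp2.Approx Groth.SpLimit

namespace Groth.AlgSp2.Absolute

noncomputable section

variable {S : Scheme.{u}}

theorem base_hom_ext {X : Sp S} (a b : X ⟶ (yon S).obj (Over.mk (𝟙 S))) : a = b :=
  hom_ext_yon fun T z => by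
    obtain ⟨p, hp⟩ := (yon S).map_surjective (z ≫ a)
    obtain ⟨q, hq⟩ := (yon S).map_surjective (z ≫ b)
    have h₁ : p.left = T.hom := by simpa using Over.w p
    have h₂ : q.left = T.hom := by simpa using Over.w q
    rw [← hp, ← hq, Over.OverMorphism.ext (h₁.trans h₂.symm)]

theorem exists_toBase {X : Sp S} (hX : IsAlgSpace X) :
    ∃ _ : X ⟶ (yon S).obj (Over.mk (𝟙 S)), True := by
  obtain ⟨W, p, hp, hps⟩ := hX.atlas
  obtain ⟨q, -⟩ := exists_desc_of_etale p hp hps
    ((yon S).map (Over.homMk W.hom (Category.comp_id _))) fun Z p₁ p₂ _ => base_hom_ext _ _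
  exact ⟨q, trivial⟩

/-- A map of spaces locally of finite presentation over the base is locally of finite presentation. -/
theorem locP_lfp_of_lfpS {X Y : Sp S} (hX : IsAlgSpace X) (hY : IsAlgSpace Y) (hXf : LfpS X)
    (hYf : LfpS Y) (f : X ⟶ Y) : LocP @LocallyOfFinitePresentation f := by
  obtain ⟨q, -⟩ := exists_toBase hY
  refine locP_of_comp_of_cancel' (Q := @LocallyOfFiniteType) (fun A B C f g h hg => ?_) hX hY
    (IsAlgSpace.yon_obj _) (hXf (f ≫ q))
    (locP_mono (P := @LocallyOfFinitePresentation)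
      (fun _ _ k (_ : LocallyOfFinitePresentation k) => (inferInstance : LocallyOfFiniteType k)) (hYf q))
  have := hg
  have := h
  exact Groth.SpectralTopology.lfp_of_comp f g

variable [QuasiSeparatedSpace S]

/-- Between qcqs spaces locally finitely presented maps are of finite presentation. -/
theorem isFinitePresentationMor_of_locP {X Y : Sp S} (hX : IsAlgSpace X) (hY : IsAlgSpace Y)
    (hXc : IsQuasiCompactSp X) (hXs : IsQuasiSeparatedSp X) (hYs : IsQuasiSeparatedSp Y) {f : X ⟶ Y}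
    (hf : LocP @LocallyOfFinitePresentation f) : IsFinitePresentationMor f :=
  ⟨hf, isQuasiCompactMor_of_source hX hY hXc hYs f, isQuasiSeparatedMor_of_sp hXs f⟩

/-- A compact subset has a quasi-compact open neighbourhood. -/
theorem exists_compact_open_of_isCompact {Y : Sp S} (hY : IsAlgSpace Y)
    {K : Set (AlgSp.Points Y)} (hK : IsCompact K) :
    ∃ D, IsOpen D ∧ IsCompact D ∧ K ⊆ D := by
  choose N hNo hNc hxN _ using fun x : AlgSp.Points Y =>
    exists_compact_open_nhd hY (Set.finite_singleton x) isOpen_univ (Set.subset_univ _)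
  obtain ⟨t, ht⟩ := hK.elim_finite_subcover N hNo fun x _ =>
    Set.mem_iUnion.2 ⟨x, hxN x rfl⟩
  exact ⟨⋃ x ∈ t, N x, isOpen_biUnion fun x _ => hNo x,
    t.finite_toSet.isCompact_biUnion fun x _ => hNc x, ht⟩

theorem exists_fp_factor_qc {X Y : Sp S} (hX : IsAlgSpace X) (hXc : IsQuasiCompactSp X)
    (hXs : IsQuasiSeparatedSp X) (hY : IsAlgSpace Y) (hYc : IsQuasiCompactSp Y)
    (hYs : IsQuasiSeparatedSp Y) (f : X ⟶ Y) :
    ∃ (Q : Sp S) (a : X ⟶ Q) (b : Q ⟶ Y), a ≫ b = f ∧ IsAlgSpace Q ∧ IsQuasiCompactSp Q ∧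
      IsQuasiSeparatedSp Q ∧ IsAffineMor a ∧ LocP @LocallyOfFinitePresentation b := by
  obtain ⟨X₁, aX, hX₁, hX₁c, hX₁s, hX₁f, haX⟩ := hasModel hX hXc hXs
  obtain ⟨Y₁, aY, hY₁, hY₁c, hY₁s, hY₁f, haY⟩ := hasModel hY hYc hYs
  obtain ⟨I, hI, hI', hIne, D, t, c, hc, e, hD, hDa, ht, -⟩ :=
    exists_limit_affine hX₁ hX₁c hX₁s haX
  have hDc : ∀ i, IsQuasiCompactSp (D.obj i) := fun i =>
    isQuasiCompactSp_of_affineMor (hD i) (ht i).1 hX₁ hX₁c
  have hDs : ∀ i, IsQuasiSeparatedSp (D.obj i) := fun i =>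
    isQuasiSeparatedSp_of_affineMor (hD i) (ht i).1 hX₁s
  have hDf : ∀ i, LfpS (D.obj i) := fun i => LfpS.of_locP (hD i) hX₁ hX₁f (ht i).2.1
  obtain ⟨qY, -⟩ := exists_toBase hY₁
  obtain ⟨i⟩ := IsCofiltered.nonempty (C := Iᵒᵖ)
  obtain ⟨qi, -⟩ := exists_toBase (hD i)
  obtain ⟨j, φ, g, hg, -⟩ := space_exists_lift (D := D) (c := c) (a := qY) hD hDa hc hDc hY₁
    (IsAlgSpace.yon_obj _) (hY₁f qY) hDs (i := i) qi (e.hom ≫ f ≫ aY) (base_hom_ext _ _)
  have sq := IsPullback.of_hasPullback g aY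
  let Q := pullback g aY
  have hQ : IsAlgSpace Q := isAlgSpace_of_isPullback sq hY₁.diag (hD j) hY
  have hfst : IsAffineMor (pullback.fst g aY) := isAffineMor_of_isPullback sq.flip haY
  let a : X ⟶ Q := sq.lift (e.inv ≫ c.π.app j) f (by
    rw [Category.assoc, hg, Iso.inv_hom_id_assoc])
  refine ⟨Q, a, pullback.snd g aY, sq.lift_snd _ _ _, hQ,
    isQuasiCompactSp_of_affineMor hQ hfst (hD j) (hDc j),
    isQuasiSeparatedSp_of_affineMor hQ hfst (hDs j), ?_,
    locP_of_isPullback (hD j) hY₁ hY sq (locP_lfp_of_lfpS (hD j) hY₁ (hDf j) hY₁f g)⟩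
  refine isAffineMor_of_comp a (pullback.fst g aY) ?_ ?_
  · rw [sq.lift_fst]
    exact isAffineMor_comp (isAffineMor_iff_repWith.2 (repWith_isIso e.inv))
      (isAffineMor_π D hDa hc j)
  · exact isAffineMor_iff_repWith.2 (repWith_mono
      (fun _ _ k (_ : IsClosedImmersion k) => (inferInstance : IsAffineHom k))
      (repWith_diagonal_of_isAffineMor hQ hfst))

/-- A map from a qcqs space to a quasi-separated one is an affine map followed by one of finite
presentation. -/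
theorem exists_fp_factor {X Y : Sp S} (hX : IsAlgSpace X) (hXc : IsQuasiCompactSp X)
    (hXs : IsQuasiSeparatedSp X) (hY : IsAlgSpace Y) (hYs : IsQuasiSeparatedSp Y) (f : X ⟶ Y) :
    ∃ (Q : Sp S) (a : X ⟶ Q) (b : Q ⟶ Y), a ≫ b = f ∧ IsAlgSpace Q ∧ IsQuasiCompactSp Q ∧
      IsQuasiSeparatedSp Q ∧ IsAffineMor a ∧ IsFinitePresentationMor b := by
  have : CompactSpace (AlgSp.Points X) := (isQuasiCompactSp_iff_compactSpace hX).1 hXc
  obtain ⟨D, hDo, hDc, hfD⟩ := exists_compact_open_of_isCompact hY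
    (isCompact_range (AlgSp.Points.continuous_map f))
  let ι := openSubι Y D
  have hι : RepWith @IsOpenImmersion ι := repWith_openSubι hDo
  have : Mono ι := mono_of_repWith (fun _ _ k (_ : IsOpenImmersion k) => inferInstance) hι
  have hY' := isAlgSpace_openSub hY hDo
  have hY'c : IsQuasiCompactSp (openSub Y D) := by
    refine (isQuasiCompactSp_iff_compactSpace hY').2 ?_
    have hemb := Induction.isEmbedding_map hι
    refine ⟨hemb.isInducing.isCompact_iff.2 ?_⟩
    rw [Set.image_univ, range_map_openSubι]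
    exact hDc
  obtain ⟨f', hf'⟩ : ∃ f' : X ⟶ openSub Y D, f' ≫ ι = f :=
    exists_lift_of_forall_yon ι f fun T z => (openSub_exists_lift_iff Y D _).2 fun t =>
      hfD ⟨AlgSp.Points.ofPt z t, AlgSp.Points.map_ofPt _ _ _⟩
  obtain ⟨Q, a, b, hab, hQ, hQc, hQs, ha, hb⟩ :=
    exists_fp_factor_qc hX hXc hXs hY' hY'c (isQuasiSeparatedSp_of_mono hYs ι) f'
  refine ⟨Q, a, b ≫ ι, by rw [reassoc_of% hab, hf'], hQ, hQc, hQs, ha, ?_⟩
  exact isFinitePresentationMor_of_locP hQ hY hQc hQs hYs (locP_comp hQ hY' hY hb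
    (locP_of_repWith (repWith_mono
      (fun _ _ k (_ : IsOpenImmersion k) => (inferInstance : LocallyOfFinitePresentation k)) hι)))

/-- A qcqs space over a quasi-separated one is a limit of finitely presented ones. -/
theorem exists_limit_fp {X Y : Sp S} (hX : IsAlgSpace X) (hXc : IsQuasiCompactSp X)
    (hXs : IsQuasiSeparatedSp X) (hY : IsAlgSpace Y) (hYs : IsQuasiSeparatedSp Y) (f : X ⟶ Y) :
    ∃ (I : Type u) (_ : Preorder I) (_ : IsDirected I (fun a b => a ≤ b)) (_ : Nonempty I)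
      (D : Iᵒᵖ ⥤ Sp S) (t : D ⟶ (Functor.const Iᵒᵖ).obj Y) (c : Cone D) (_ : IsLimit c)
      (e : c.pt ≅ X), (∀ i, IsAlgSpace (D.obj i)) ∧
      (∀ (i j : Iᵒᵖ) (φ : i ⟶ j), IsAffineMor (D.map φ)) ∧
      (∀ i, IsQuasiCompactSp (D.obj i) ∧ IsQuasiSeparatedSp (D.obj i)) ∧
      (∀ i, IsFinitePresentationMor (t.app i)) ∧
      (∀ i, e.inv ≫ c.π.app i ≫ t.app i = f) := by
  obtain ⟨Q, a, b, hab, hQ, hQc, hQs, ha, hb⟩ := exists_fp_factor hX hXc hXs hY hYs f
  obtain ⟨I, hI, hI', hIne, D, t, c, hc, e, hD, hDa, ht, hte⟩ := exists_limit_affine hQ hQc hQs ha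
  have hDc : ∀ i, IsQuasiCompactSp (D.obj i) := fun i =>
    isQuasiCompactSp_of_affineMor (hD i) (ht i).1 hQ hQc
  have hDs : ∀ i, IsQuasiSeparatedSp (D.obj i) := fun i =>
    isQuasiSeparatedSp_of_affineMor (hD i) (ht i).1 hQs
  refine ⟨I, hI, hI', hIne, D, t ≫ (Functor.const Iᵒᵖ).map b, c, hc, e, hD, hDa,
    fun i => ⟨hDc i, hDs i⟩, fun i => ?_, fun i => ?_⟩
  · exact isFinitePresentationMor_of_locP (hD i) hY (hDc i) (hDs i) hYs
      (locP_comp (hD i) hQ hY (ht i).2.1 hb.1)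
  · rw [NatTrans.comp_app, Functor.const_map_app, reassoc_of% (hte i), hab]

end

end Groth.AlgSp2.Absolute
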