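import Groth.Agent.SpLimit.OpenDescent

/-!
# Opens of schemes over a stage, and etale schemes over a limit of affine schemes
-/

set_option autoImplicit false
set_option backward.isDefEq.respectTransparency false
set_option backward.isDefEq.respectTransparency.types false

universe u

open CategoryTheory CategoryTheory.Limits AlgebraicGeometry Opposite AlgSp
open Groth.AlgSpBasic Groth.SpLimit

noncomputable section

namespace Groth.AlgSp2.Absolute

variable {S : Scheme.{u}}

/-- The conjunction of a point of a scheme over a stage and a lift of its image. -/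
theorem exists_lift_pullSys {I : Type u} [SmallCategory I] {D : I ⥤ Sp S} {c : Cone D} {i₀ : I}
    {T : Over S} {g : (yon S).obj T ⟶ D.obj i₀} (P : PullSys c i₀ g) (k : Over i₀) {Z : Over S}
    (z : Z ⟶ T) (u : (yon S).obj Z ⟶ D.obj k.left) (h : u ≫ D.map k.hom = (yon S).map z ≫ g) :
    ∃ l : Z ⟶ P.E.obj k, l ≫ P.q k = z ∧ (yon S).map l ≫ P.p k = u := by
  obtain ⟨l, hl⟩ := (yon S).map_surjective ((P.sq k).lift u ((yon S).map z) h)
  exact ⟨l, (yon S).map_injective (by rw [Functor.map_comp, hl, (P.sq k).lift_snd]),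
    by rw [hl, (P.sq k).lift_fst]⟩

variable {I : Type u} [SmallCategory I] [IsCofiltered I] {D : I ⥤ Sp S} {c : Cone D}
  (hDa : ∀ (i j : I) (φ : i ⟶ j), IsAffineMor (D.map φ)) (hc : IsLimit c)

include hDa hc in
/-- Two quasi-compact opens of a scheme over a stage which agree on the points over the limit agree
on the points over a later stage. -/
theorem exists_stage_opens {i₀ : I} {T : Over S} [CompactSpace T.left] [QuasiSeparatedSpace T.left]
    (g : (yon S).obj T ⟶ D.obj i₀) (O₁ O₂ : T.left.Opens) (h₁ : IsCompact (O₁ : Set T.left))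
    (h₂ : IsCompact (O₂ : Set T.left))
    (h : ∀ (Z : Over S) (z : Z ⟶ T) (u : (yon S).obj Z ⟶ c.pt),
      u ≫ c.π.app i₀ = (yon S).map z ≫ g → z.left ⁻¹ᵁ O₁ = z.left ⁻¹ᵁ O₂) :
    ∃ (i : I) (φ : i ⟶ i₀), ∀ (Z : Over S) (z : Z ⟶ T) (u : (yon S).obj Z ⟶ D.obj i),
      u ≫ D.map φ = (yon S).map z ≫ g → z.left ⁻¹ᵁ O₁ = z.left ⁻¹ᵁ O₂ := by
  obtain ⟨P⟩ := nonempty_pullSys D hDa hc i₀ g
  let m₀ : Over i₀ := Over.mk (𝟙 i₀)
  have : IsAffineHom (P.q m₀).left := P.aff m₀
  have : ∀ {m n : Over i₀} (α : m ⟶ n), IsAffineHom ((P.E ⋙ Over.forget S).map α) :=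
    fun α => P.aff_map α
  have : ∀ m, CompactSpace ((P.E ⋙ Over.forget S).obj m) := fun m =>
    have := P.aff m
    QuasiCompact.compactSpace_of_compactSpace (P.q m).left
  have : ∀ m, QuasiSeparatedSpace ((P.E ⋙ Over.forget S).obj m) := fun m =>
    have := P.aff m
    quasiSeparatedSpace_of_quasiSeparated (P.q m).left
  obtain ⟨m, ψ, hψ⟩ := exists_map_preimage_eq_map_preimage (P.E ⋙ Over.forget S) _ P.isLimit
    (i := m₀) (U := (P.q m₀).left ⁻¹ᵁ O₁) (V := (P.q m₀).left ⁻¹ᵁ O₂)
    (QuasiCompact.isCompact_preimage (f := (P.q m₀).left) _ O₁.2 h₁)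
    (QuasiCompact.isCompact_preimage (f := (P.q m₀).left) _ O₂.2 h₂) (by
      rw [← Scheme.Hom.comp_preimage, ← Scheme.Hom.comp_preimage]
      show (P.L.π.app m₀ ≫ P.q m₀).left ⁻¹ᵁ O₁ = (P.L.π.app m₀ ≫ P.q m₀).left ⁻¹ᵁ O₂
      rw [P.π_q]
      exact h _ P.bot P.top P.sqTop.w)
  refine ⟨m.left, m.hom, fun Z z u hu => ?_⟩
  obtain ⟨l, hl, -⟩ := exists_lift_pullSys P m z u hu
  rw [← hl, ← P.map_q ψ]
  simp only [Over.comp_left, Scheme.Hom.comp_preimage]
  exact congrArg (l.left ⁻¹ᵁ ·) hψ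

/-- An affine etale scheme over the limit of affine schemes comes from a stage. -/
theorem exists_etale_stage (A : AffSys S I) {W : Over S} [IsAffine W.left] (f : W ⟶ A.c.pt)
    (he : Etale f.left) :
    ∃ (i : I) (W₀ : Over S) (f₀ : W₀ ⟶ A.D.obj i) (top : W ⟶ W₀),
      IsPullback top f f₀ (A.c.π.app i) ∧ IsAffine W₀.left ∧ Etale f₀.left := by
  let D' := A.D ⋙ Over.forget S
  have : Etale f.left := he
  have hlfp : LocallyOfFinitePresentation f.left := inferInstance
  have hqc : QuasiCompact f.left := inferInstance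
  have hqs : QuasiSeparated f.left := inferInstance
  obtain ⟨i, ⟨M⟩⟩ := Groth.SpectralTopology.exists_stageModel (D := D')
    (c := (Over.forget S).mapCone A.c) A.isLimit (X := W.left) (f := f.left)
  have htr : ∀ (P : MorphismProperty Scheme.{u}) [P.RespectsIso] {i : I}
      (M : Groth.SpectralTopology.StageModel
        (show W.left ⟶ ((Over.forget S).mapCone A.c).pt from f.left) i),
      P f.left → P (pullback.snd M.hom (((Over.forget S).mapCone A.c).π.app i)) := fun P _ i M h => by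
    rw [← M.sq.isoPullback_inv_snd, P.cancel_left_of_respectsIso]
    exact h
  have : CompactSpace M.obj :=
    have : IsAffine (D'.obj i) := A.aff i
    QuasiCompact.compactSpace_of_compactSpace M.hom
  obtain ⟨j₁, h₁⟩ := Groth.Limits.exists_stage_of_ringDescends @Etale Groth.Limits.ringDescends_etale
    (fun _ _ _ _ => inferInstance) D' _ A.isLimit i M.hom (htr @Etale M he)
  let M₁ := M.pull j₁.hom
  have e₁ : Etale M₁.hom := (prop_fst_iff (P := @Etale) _ _).2 h₁
  obtain ⟨j₃, φ₃, h₃⟩ := Groth.Calg2.DescendProps.baseDesc_isAffineHom D' _ A.isLimit M₁.hom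
    (htr @IsAffineHom M₁ inferInstance)
  let M₃ := M₁.pull φ₃
  have a₃ : IsAffineHom M₃.hom := (prop_fst_iff (P := @IsAffineHom) _ _).2 h₃
  refine ⟨j₃, Over.mk (M₃.hom ≫ (A.D.obj j₃).hom), Over.homMk M₃.hom rfl,
    Over.homMk M₃.map (by
      change M₃.map ≫ M₃.hom ≫ (A.D.obj j₃).hom = W.hom
      rw [← Over.w f, ← Category.assoc, M₃.sq.w, Category.assoc]
      exact congrArg (f.left ≫ ·) (Over.w (A.c.π.app j₃))), ?_, ?_, ?_⟩
  · exact IsPullback.of_map (Over.forget S) (Over.OverMorphism.ext M₃.sq.w) M₃.sq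
  · have : IsAffine (D'.obj j₃) := A.aff j₃
    exact isAffine_of_isAffineHom M₃.hom
  · exact MorphismProperty.pullback_fst (P := @Etale) _ _ e₁

end Groth.AlgSp2.Absolute
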